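import Mathlib
import Cfsg.Agent.H248.TwF4Dich
import Cfsg.Agent.KFacts.TwF4.TorFix
import Cfsg.Agent.KFacts.TwF4.Irr
import Cfsg.Agent.Lib.FrattiniBasic
import Cfsg.Agent.H398.FPR.PairMap_m3
import Cfsg.Agent.PreUniq.LowExc.TwF4Torus
import Cfsg.Agent.H42.Tw.AbF4
import Cfsg.Agent.Lib.CoprimeCommutator
import Cfsg.Agent.FastGrp
import Cfsg.Agent.Prune
set_option linter.all false

section
prune_inst 0x7f00000000000000000000000000000000000000000000000000000000000000000000000000000000000000000000000000000000000000000000000000000000000000000000000000000000000000003fffffffffffffffffffffffffffbeffbdffffffff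

-- part: H448/FprTwF/Sl
section
set_option linter.all false
open scoped Cfsg.Agent.FastGrp

-- part: H448/FprTwF/Gen
section
/-!
# Overgroups of the unipotent radical `J 2 8` in a group of type `²F₄` (helper448)

* `top_of_ten` : ten consecutive root groups generate `G`;
* `over` : a proper subgroup containing `J 2 8` is contained in a conjugate of `N(J 2 8)` or of `N(J 1 7)`.
-/

set_option autoImplicit false
set_option linter.unusedSectionVars false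

namespace Cfsg.Agent.H448.FprTwF

open Cfsg.Agent.KFacts.TwF4 Cfsg.Agent.KFacts.TwF4.Full
open Cfsg.Agent.SplitTwo Cfsg.Agent.SplitTwo.ZS Cfsg.Agent.TitsThree.RankTwoZ
open Cfsg.Agent.SplitTwo.RootSysZ Subgroup

universe u

variable {F : Type*} [Field F] {σ : F →+* F} {G : Type u} [Group G] (S : Full σ G)

/-- the root group `X_k` is contained in `H` -/
def Has (H : Subgroup G) (k : ℤ) : Prop := S.XZ k ≤ H

variable {S} {H : Subgroup G}

theorem Has.add16 {k : ℤ} (h : Has S H k) : Has S H (k + 16) := by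
  have := S.zsys8.per k
  rw [show k + 2 * 8 = k + 16 by ring] at this
  unfold Has
  rw [this]
  exact h

theorem Has.sub16 {k : ℤ} (h : Has S H k) : Has S H (k - 16) := by
  have := S.zsys8.per' k
  rw [show k - 2 * 8 = k - 16 by ring] at this
  unfold Has
  rw [this]
  exact h

theorem Has.refl {i k : ℤ} (h1 : Has S H i) (h2 : Has S H (i + 8)) (hk : Has S H k) :
    Has S H (2 * i + 8 - k) := by
  obtain ⟨u, hu, hu1⟩ := S.zsys8.exists_ne i
  obtain ⟨v, hv, v', hv', hn⟩ := S.zsys8.mu i u hu hu1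
  have h3 : Has S H (i - 8) := by
    have := h2.sub16
    rwa [show i + 8 - 16 = i - 8 by ring] at this
  have hnH : v * u * v' ∈ H := mul_mem (mul_mem (h3 hv) (h1 hu)) (h3 hv')
  have h4 : Has S H (2 * i - 8 - k) := by
    intro y hy
    have h5 := (hn k ((v * u * v')⁻¹ * y * (v * u * v'))).2
    have h6 : (v * u * v')⁻¹ * y * (v * u * v') ∈ S.XZ k := by
      have := hn.mem_inv (j := 2 * i - 8 - k) (k := k) hy (by ring)
      exact this
    have h7 := hk h6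
    have h8 := mul_mem (mul_mem hnH h7) (inv_mem hnH)
    have e : v * u * v' * ((v * u * v')⁻¹ * y * (v * u * v')) * (v * u * v')⁻¹ = y := by group
    rwa [e] at h8
  have := h4.add16
  rwa [show 2 * i - 8 - k + 16 = 2 * i + 8 - k by ring] at this

theorem top_of_all (h : ∀ k, Has S H k) : H = ⊤ := by
  rw [eq_top_iff, ← S.R.gen]
  refine iSup_le fun i => ?_
  have h1 := h (i.val : ℤ)
  have h2 : S.XZ (i.val : ℤ) = S.R.X i := by
    show S.R.X ((i.val : ℤ) : ZMod (2 * 8)) = _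
    rw [Int.cast_natCast, ZMod.natCast_zmod_val]
  unfold Has at h1
  rwa [h2] at h1

theorem all_of_two_refl {a : ℤ} (h0 : Has S H a) (h1 : Has S H (a + 1)) (h8 : Has S H (a + 8))
    (h9 : Has S H (a + 9)) : ∀ k, Has S H k := by
  have r0 : ∀ k, Has S H k → Has S H (2 * a + 8 - k) := fun k hk => h0.refl h8 hk
  have r1 : ∀ k, Has S H k → Has S H (2 * a + 10 - k) := fun k hk => by
    have := h1.refl (show Has S H (a + 1 + 8) by rwa [show a + 1 + 8 = a + 9 by ring]) hk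
    rwa [show 2 * (a + 1) + 8 - k = 2 * a + 10 - k by ring] at this
  have up : ∀ k, Has S H k → Has S H (k + 2) := fun k hk => by
    have := r1 _ (r0 k hk)
    rwa [show 2 * a + 10 - (2 * a + 8 - k) = k + 2 by ring] at this
  have dn : ∀ k, Has S H k → Has S H (k - 2) := fun k hk => by
    have := r0 _ (r1 k hk)
    rwa [show 2 * a + 8 - (2 * a + 10 - k) = k - 2 by ring] at this
  have key : ∀ b : ℤ, Has S H b → ∀ n : ℕ, Has S H (b + 2 * n) ∧ Has S H (b - 2 * n) := by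
    intro b hb n
    induction n with
    | zero => simpa using hb
    | succ n ih =>
      refine ⟨?_, ?_⟩
      · have := up _ ih.1
        rwa [show b + 2 * (n : ℤ) + 2 = b + 2 * ((n + 1 : ℕ) : ℤ) by push_cast; ring] at this
      · have := dn _ ih.2
        rwa [show b - 2 * (n : ℤ) - 2 = b - 2 * ((n + 1 : ℕ) : ℤ) by push_cast; ring] at this
  intro k
  obtain ⟨c, hc | hc⟩ := Int.even_or_odd' (k - a)
  · have e : k = a + 2 * c := by omega
    rcases le_total 0 c with h | h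
    · have := (key a h0 c.toNat).1
      rwa [Int.toNat_of_nonneg h, ← e] at this
    · have := (key a h0 (-c).toNat).2
      rwa [Int.toNat_of_nonneg (by omega), show a - 2 * -c = k by omega] at this
  · have e : k = a + 1 + 2 * c := by omega
    rcases le_total 0 c with h | h
    · have := (key (a + 1) h1 c.toNat).1
      rwa [Int.toNat_of_nonneg h, ← e] at this
    · have := (key (a + 1) h1 (-c).toNat).2
      rwa [Int.toNat_of_nonneg (by omega), show a + 1 - 2 * -c = k by omega] at this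

/-- ten consecutive root groups generate `G` -/
theorem top_of_ten {a : ℤ} (h : ∀ k, a ≤ k → k ≤ a + 9 → Has S H k) : H = ⊤ :=
  top_of_all (all_of_two_refl (h a (by omega) (by omega)) (h (a + 1) (by omega) (by omega))
    (h (a + 8) (by omega) (by omega)) (h (a + 9) (by omega) (by omega)))

theorem has_of_J {a b k : ℤ} (h : J S.XZ a b ≤ H) (h1 : a ≤ k) (h2 : k ≤ b) : Has S H k :=
  (X_le_J h1 h2).trans h

theorem J_le_of_has {a b : ℤ} (h : ∀ k, a ≤ k → k ≤ b → Has S H k) : J S.XZ a b ≤ H :=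
  J_le h

variable (S)

theorem torus_mul {t w : G} (ht : t ∈ S.T) {f : ZMod (2 * 8) → ZMod (2 * 8)} (hf : Maps S.R.X w f) :
    Maps S.R.X (t * w) f := by
  intro k x
  have e : t * w * x * (t * w)⁻¹ = t * (w * x * w⁻¹) * t⁻¹ := by group
  rw [e]
  exact (ht _ _).trans (hf _ _)

/-- **relative positions** -/
theorem pos {lo hi s : ℤ} (hlo : lo ≤ 2) (hhi : 7 ≤ hi) (hlh : hi < lo + 7) (hs : lo + hi = 2 * s)
    (hH : J S.XZ lo hi ≤ H) {h : G} (hh : h ∈ H) : ∃ b ∈ J S.XZ 1 8, ∃ c : ℤ, -4 ≤ c ∧ c < 4 ∧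
      (∀ k, lo ≤ k → k ≤ hi → ∀ y ∈ S.XZ k, b * y * b⁻¹ ∈ H) ∧
      (∀ k, 2 * c + lo ≤ k → k ≤ 2 * c + hi → ∀ y ∈ S.XZ k, b * y * b⁻¹ ∈ H) ∧
      (∃ m : G, (∃ b' ∈ J S.XZ 1 8, h = b * m * b') ∧
        (Maps S.R.X m (fun k => ((2 * c : ℤ) : ZMod (2 * 8)) + k) ∨
          Maps S.R.X m (fun k => ((2 * (c + s) : ℤ) : ZMod (2 * 8)) - k))) := by
  have Z := S.zsys8
  have hnorm : ∀ b ∈ J S.XZ 1 8, ∀ y ∈ J S.XZ lo hi, b * y * b⁻¹ ∈ J S.XZ lo hi := fun b hb y hy =>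
    Z.conj_J (a := lo) (b := hi) (c := 1) (d := 8) (by omega) (by omega) (by omega) hb hy
  obtain ⟨b, hb, t, ht, w, ⟨c0, hw⟩, b', hb', rfl⟩ := S.bruhatE h
  have key : ∀ c : ℤ, (Maps S.R.X (t * w) (fun k => ((2 * c : ℤ) : ZMod (2 * 8)) + k) ∨
          Maps S.R.X (t * w) (fun k => ((2 * (c + s) : ℤ) : ZMod (2 * 8)) - k)) →
      (∀ k, 2 * c + lo ≤ k → k ≤ 2 * c + hi → ∀ y ∈ S.XZ k, b * y * b⁻¹ ∈ H) := by
    intro c hm k h1 h2 y hy
    have hz : (t * w)⁻¹ * y * (t * w) ∈ J S.XZ lo hi := by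
      rcases hm with hm | hm
      · refine mem_J (k := k - 2 * c) ?_ (by omega) (by omega)
        have h3 := (hm ((k - 2 * c : ℤ) : ZMod (2 * 8)) ((t * w)⁻¹ * y * (t * w))).1
        refine h3 ?_
        have e : t * w * ((t * w)⁻¹ * y * (t * w)) * (t * w)⁻¹ = y := by group
        rw [e]
        have e2 : ((2 * c : ℤ) : ZMod (2 * 8)) + ((k - 2 * c : ℤ) : ZMod (2 * 8)) = (k : ZMod (2 * 8)) := by
          push_cast; ring
        show y ∈ S.R.X (((2 * c : ℤ) : ZMod (2 * 8)) + ((k - 2 * c : ℤ) : ZMod (2 * 8)))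
        rw [e2]
        exact hy
      · refine mem_J (k := 2 * (c + s) - k) ?_ (by omega) (by omega)
        have h3 := (hm ((2 * (c + s) - k : ℤ) : ZMod (2 * 8)) ((t * w)⁻¹ * y * (t * w))).1
        refine h3 ?_
        have e : t * w * ((t * w)⁻¹ * y * (t * w)) * (t * w)⁻¹ = y := by group
        rw [e]
        have e2 : ((2 * (c + s) : ℤ) : ZMod (2 * 8)) - ((2 * (c + s) - k : ℤ) : ZMod (2 * 8)) = (k : ZMod (2 * 8)) := by
          push_cast; ring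
        show y ∈ S.R.X (((2 * (c + s) : ℤ) : ZMod (2 * 8)) - ((2 * (c + s) - k : ℤ) : ZMod (2 * 8)))
        rw [e2]
        exact hy
    have h4 := hH (by
      have := hnorm b'⁻¹ (inv_mem hb') _ hz
      exact this : b'⁻¹ * ((t * w)⁻¹ * y * (t * w)) * b'⁻¹⁻¹ ∈ J S.XZ lo hi)
    have h5 := mul_mem (mul_mem hh h4) (inv_mem hh)
    have e : b * t * w * b' * (b'⁻¹ * ((t * w)⁻¹ * y * (t * w)) * b'⁻¹⁻¹) * (b * t * w * b')⁻¹ = b * y * b⁻¹ := by
      group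
    rwa [e] at h5
  have fin : ∀ c : ℤ, -4 ≤ c → c < 4 → (Maps S.R.X (t * w) (fun k => ((2 * c : ℤ) : ZMod (2 * 8)) + k) ∨
          Maps S.R.X (t * w) (fun k => ((2 * (c + s) : ℤ) : ZMod (2 * 8)) - k)) → _ :=
    fun c h1 h2 hm => (⟨b, hb, c, h1, h2,
      fun k h3 h4 y hy => hH (hnorm b hb y (mem_J hy h3 h4)), key c hm,
      t * w, ⟨b', hb', by group⟩, hm⟩ : ∃ b₁ ∈ J S.XZ 1 8, ∃ c : ℤ, -4 ≤ c ∧ c < 4 ∧
      (∀ k, lo ≤ k → k ≤ hi → ∀ y ∈ S.XZ k, b₁ * y * b₁⁻¹ ∈ H) ∧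
      (∀ k, 2 * c + lo ≤ k → k ≤ 2 * c + hi → ∀ y ∈ S.XZ k, b₁ * y * b₁⁻¹ ∈ H) ∧
      (∃ m : G, (∃ b'' ∈ J S.XZ 1 8, b * t * w * b' = b₁ * m * b'') ∧
        (Maps S.R.X m (fun k => ((2 * c : ℤ) : ZMod (2 * 8)) + k) ∨
          Maps S.R.X m (fun k => ((2 * (c + s) : ℤ) : ZMod (2 * 8)) - k))))
  rcases hw with hw | hw
  · obtain ⟨c, h1, h2, h3⟩ := reduce c0 (-4)
    rw [h3] at hw
    exact fin c h1 (by omega) (Or.inl (torus_mul S ht hw))
  · obtain ⟨c, h1, h2, h3⟩ := reduce c0 (s - 4)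
    rw [h3] at hw
    refine fin (c - s) (by omega) (by omega) (Or.inr ?_)
    rw [show c - s + s = c by ring]
    exact torus_mul S ht hw

/-- relative position `0` -/
theorem conj_of_zero {lo hi s : ℤ} (hlo : lo ≤ 2) (hhi : 7 ≤ hi) (hlh : hi < lo + 7) (hs : lo + hi = 2 * s)
    {b b' m : G} (hb : b ∈ J S.XZ 1 8) (hb' : b' ∈ J S.XZ 1 8)
    (hm : Maps S.R.X m (fun k => ((2 * (0 : ℤ) : ℤ) : ZMod (2 * 8)) + k) ∨
          Maps S.R.X m (fun k => ((2 * ((0 : ℤ) + s) : ℤ) : ZMod (2 * 8)) - k)) {x : G} (hx : x ∈ J S.XZ lo hi) :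
    (b * m * b') * x * (b * m * b')⁻¹ ∈ J S.XZ lo hi := by
  have Z := S.zsys8
  have hnorm : ∀ b ∈ J S.XZ 1 8, ∀ y ∈ J S.XZ lo hi, b * y * b⁻¹ ∈ J S.XZ lo hi := fun b hb y hy =>
    Z.conj_J (a := lo) (b := hi) (c := 1) (d := 8) (by omega) (by omega) (by omega) hb hy
  have h1 := hnorm b' hb' x hx
  have h2 : m * (b' * x * b'⁻¹) * m⁻¹ ∈ J S.XZ lo hi := by
    rcases hm with hm | hm
    · have := map_add S hm h1
      rwa [show 2 * 0 + lo = lo by ring, show 2 * 0 + hi = hi by ring] at this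
    · have := map_sub S hm h1
      rwa [show 2 * (0 + s) - hi = lo by omega, show 2 * (0 + s) - lo = hi by omega] at this
  have h3 := hnorm b hb _ h2
  have e : b * (m * (b' * x * b'⁻¹) * m⁻¹) * b⁻¹ = b * m * b' * x * (b * m * b')⁻¹ := by group
  rwa [e] at h3

/-- conjugate by `b⁻¹` -/
def cg (H : Subgroup G) (b : G) : Subgroup G := H.map (MulAut.conj b⁻¹).toMonoidHom

theorem mem_cg {b y : G} : y ∈ cg H b ↔ b * y * b⁻¹ ∈ H := by
  constructor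
  · rintro ⟨x, hx, rfl⟩
    have e : b * ((MulAut.conj b⁻¹).toMonoidHom x) * b⁻¹ = x := by
      show b * (b⁻¹ * x * b⁻¹⁻¹) * b⁻¹ = x
      group
    rwa [e]
  · intro h
    refine ⟨_, h, ?_⟩
    show b⁻¹ * (b * y * b⁻¹) * b⁻¹⁻¹ = y
    group

theorem cg_ne_top {b : G} (hH : H ≠ ⊤) : cg H b ≠ ⊤ := by
  intro h
  apply hH
  rw [eq_top_iff]
  intro x _
  have h1 : b⁻¹ * x * b ∈ cg H b := by rw [h]; exact mem_top _
  rw [mem_cg] at h1
  have e : b * (b⁻¹ * x * b) * b⁻¹ = x := by group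
  rwa [e] at h1

theorem cg_cg {b c : G} : cg (cg H b) c = cg H (b * c) := by
  ext y
  rw [mem_cg, mem_cg, mem_cg]
  have e : b * (c * y * c⁻¹) * b⁻¹ = b * c * y * (b * c)⁻¹ := by group
  rw [e]

/-- a proper subgroup containing `J 2 8`: either it normalises `J 2 8` or a conjugate contains `J 1 8` -/
theorem over_aux (h : J S.XZ 2 8 ≤ H) :
    (∀ g ∈ H, ∀ x ∈ J S.XZ 2 8, g * x * g⁻¹ ∈ J S.XZ 2 8) ∨ ∃ b, J S.XZ 1 8 ≤ cg H b := by
  by_contra hcon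
  push Not at hcon
  obtain ⟨⟨g, hg, x, hx, hgx⟩, hno⟩ := hcon
  obtain ⟨b, hb, c, h1, h2, hA, hB, m, ⟨b', hb', rfl⟩, hm⟩ :=
    pos S (lo := 2) (hi := 8) (s := 5) (by norm_num) (by norm_num) (by norm_num) (by norm_num) h hg
  have hA' : ∀ k, 2 ≤ k → k ≤ 8 → Has S (cg H b) k := fun k h3 h4 y hy => mem_cg.2 (hA k h3 h4 y hy)
  have hB' : ∀ k, 2 * c + 2 ≤ k → k ≤ 2 * c + 8 → Has S (cg H b) k := fun k h3 h4 y hy =>
    mem_cg.2 (hB k h3 h4 y hy)
  have hJ : ∀ a : ℤ, (∀ k, a ≤ k → k ≤ a + 7 → Has S (cg H b) k) → (2 : ℤ) ∣ a - 1 → False := by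
    rintro a ha ⟨d, hd⟩
    apply hno (b * S.rot ^ d)
    rw [← cg_cg]
    refine J_le_of_has fun k h3 h4 y hy => ?_
    rw [mem_cg]
    have h5 := S.rotk_X' d k hy
    exact ha (k + 2 * d) (by omega) (by omega) h5
  have h18 : (∀ k, 1 ≤ k → k ≤ 8 → Has S (cg H b) k) → False := fun h => hJ 1 (by simpa using h) (by norm_num)
  have h310 : (∀ k, 3 ≤ k → k ≤ 10 → Has S (cg H b) k) → False := fun h => hJ 3 (by simpa using h) (by norm_num)
  have cases : c = -4 ∨ c = -3 ∨ c = -2 ∨ c = -1 ∨ c = 0 ∨ c = 1 ∨ c = 2 ∨ c = 3 := by omega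
  rcases cases with rfl | rfl | rfl | rfl | rfl | rfl | rfl | rfl
  · apply h18
    intro k h3 h4
    rcases eq_or_lt_of_le h3 with h5 | h5
    · -- `X_1` by the reflection
      have h6 : Has S (cg H b) (-2) := hB' _ (by norm_num) (by norm_num)
      have h7 : Has S (cg H b) 6 := hA' _ (by norm_num) (by norm_num)
      have h8 : Has S (cg H b) 3 := hA' _ (by norm_num) (by norm_num)
      have h9 := h6.refl (by norm_num; exact h7) h8
      rw [← h5]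
      norm_num at h9
      exact h9
    · exact hA' k (by omega) h4
  · apply h18
    intro k h3 h4
    rcases le_or_gt k 2 with h5 | h5
    · exact hB' k (by omega) (by omega)
    · exact hA' k (by omega) (by omega)
  · apply h18
    intro k h3 h4
    rcases le_or_gt k 2 with h5 | h5
    · exact hB' k (by omega) (by omega)
    · exact hA' k (by omega) (by omega)
  · apply h18
    intro k h3 h4
    rcases le_or_gt k 2 with h5 | h5
    · exact hB' k (by omega) (by omega)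
    · exact hA' k (by omega) (by omega)
  · exact hgx (conj_of_zero S (lo := 2) (hi := 8) (s := 5) (by norm_num) (by norm_num) (by norm_num)
      (by norm_num) hb hb' hm hx)
  · apply h310
    intro k h3 h4
    rcases le_or_gt k 8 with h5 | h5
    · exact hA' k (by omega) (by omega)
    · exact hB' k (by omega) (by omega)
  · apply h310
    intro k h3 h4
    rcases le_or_gt k 8 with h5 | h5
    · exact hA' k (by omega) (by omega)
    · exact hB' k (by omega) (by omega)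
  · apply h310
    intro k h3 h4
    rcases le_or_gt k 8 with h5 | h5
    · exact hA' k (by omega) (by omega)
    · exact hB' k (by omega) (by omega)

/-- a proper subgroup containing `J 1 8` normalises `J 2 8` or `J 1 7` -/
theorem over_U [Finite G] (hH : H ≠ ⊤) (h : J S.XZ 1 8 ≤ H) :
    H ≤ normalizer (J S.XZ 2 8 : Set G) ∨ H ≤ normalizer (J S.XZ 1 7 : Set G) := by
  have C := Cfsg.Agent.H248.TwF4Over.cond_top S
  rcases Cfsg.Agent.H248.TwF4Over.overgroup C (M := H) (by rwa [inf_top_eq]) with h1 | h1 | h1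
  · exact absurd (top_le_iff.1 h1) hH
  · exact Or.inl h1
  · exact Or.inr h1

/-- **Overgroups of `J 2 8`.** -/
theorem overJ [Finite G] (hH : H ≠ ⊤) (h : J S.XZ 2 8 ≤ H) :
    ∃ b, cg H b ≤ normalizer (J S.XZ 2 8 : Set G) ∨ cg H b ≤ normalizer (J S.XZ 1 7 : Set G) := by
  rcases over_aux S h with h1 | ⟨b, hb⟩
  · refine ⟨1, Or.inl fun y hy => ?_⟩
    rw [mem_cg] at hy
    have e : (1 : G) * y * 1⁻¹ = y := by group
    rw [e] at hy
    exact Cfsg.Agent.H248.TwF4Over.mem_normalizer_J (Cfsg.Agent.H248.TwF4Over.cond_top S)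
      (fun x hx => h1 y hy x hx)
  · exact ⟨b, over_U S (cg_ne_top hH) hb⟩

end Cfsg.Agent.H448.FprTwF
end

-- part: H448/FprTwF/Frat
section
/-!
# `CommFull` modulo the Frattini subgroup (helper448)

`commFull_of` : `R` a finite `q`-group; `CommFull R y` follows when every subgroup `M` of `R` that contains all
commutators and `q`-th powers of elements of `R` and all commutators with `y` is `R`.
-/

set_option autoImplicit false

namespace Cfsg.Agent.H448.FprTwF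

open Subgroup

variable {G : Type*} [Group G] [Finite G]

theorem commFull_of {q : ℕ} [Fact q.Prime] {R : Subgroup G} (hR : IsPGroup q R) {y : G}
    (h : ∀ M : Subgroup G, M ≤ R → (∀ a ∈ R, ∀ b ∈ R, a * b * a⁻¹ * b⁻¹ ∈ M) → (∀ a ∈ R, a ^ q ∈ M) →
      (∀ a ∈ R, y * a * y⁻¹ * a⁻¹ ∈ M) → R ≤ M) : Cfsg.Agent.H398.FPR.CommFull R y := by
  intro R1 hR1 hc
  -- a maximal subgroup of `R` containing `R1`
  have h1 : R1.subgroupOf R ≠ ⊤ := by
    intro h2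
    rw [subgroupOf_eq_top] at h2
    exact absurd hR1 (not_lt_of_ge h2)
  obtain ⟨M0, hM0, hle⟩ := (eq_top_or_exists_le_coatom (R1.subgroupOf R)).resolve_left h1
  have hcomm := Cfsg.Agent.Lib.FrattiniBasic.commutator_le_of_isCoatom hR hM0
  have hmem : ∀ a (ha : a ∈ R), (⟨a, ha⟩ : R) ∈ M0 → a ∈ M0.map R.subtype := fun a ha h => ⟨⟨a, ha⟩, h, rfl⟩
  have h3 := h (M0.map R.subtype) (map_subtype_le M0) ?_ ?_ ?_
  · apply hM0.1
    rw [eq_top_iff]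
    rintro ⟨a, ha⟩ -
    obtain ⟨⟨b, hb⟩, hb1, hb2⟩ := h3 ha
    have e : (⟨b, hb⟩ : R) = ⟨a, ha⟩ := Subtype.ext hb2
    rwa [e] at hb1
  · intro a ha b hb
    refine hmem _ (mul_mem (mul_mem (mul_mem ha hb) (inv_mem ha)) (inv_mem hb)) (hcomm ?_)
    exact commutator_mem_commutator (G := R) (H₁ := ⊤) (H₂ := ⊤) (g₁ := ⟨a, ha⟩) (g₂ := ⟨b, hb⟩) trivial trivial
  · intro a ha
    exact hmem _ (pow_mem ha q) (Cfsg.Agent.Lib.FrattiniBasic.pow_mem_of_isCoatom hR hM0 ⟨a, ha⟩)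
  · intro a ha
    have h4 := hc a ha
    have h5 : y * a * y⁻¹ * a⁻¹ ∈ R := hR1.le h4
    exact hmem _ h5 (hle (by rw [mem_subgroupOf]; exact h4))

end Cfsg.Agent.H448.FprTwF
end

-- part: H448/FprTwF/Sl
section
/-!
# Elements of `⟨X_1, X_9⟩ = SL₂(q)` of order `p`, `p ∣ q + 1`, in groups of type `²F₄` (helper448)

`comm_full` : `[J 2 8, y] = J 2 8`.
-/

set_option autoImplicit false
set_option linter.unusedSectionVars false

namespace Cfsg.Agent.H448.FprTwF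

open Cfsg.Agent.KFacts.TwF4 Cfsg.Agent.KFacts.TwF4.Full
open Cfsg.Agent.SplitTwo Cfsg.Agent.SplitTwo.ZS Cfsg.Agent.TitsThree.RankTwoZ
open Cfsg.Agent.SplitTwo.RootSysZ Subgroup

universe u

variable {F : Type*} [Field F] {σ : F →+* F} {G : Type u} [Group G] (S : Full σ G)

theorem mem_of_rel {M R : Subgroup G} (hc : ∀ a ∈ R, ∀ b ∈ R, a * b * a⁻¹ * b⁻¹ ∈ M) {x y r : G} (hx : x ∈ R)
    (hy : y ∈ R) (h : x * y = y * x * r) : r ∈ M := by
  have h1 := hc x⁻¹ (inv_mem hx) y⁻¹ (inv_mem hy)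
  have e : x⁻¹ * y⁻¹ * x⁻¹⁻¹ * y⁻¹⁻¹ = x⁻¹ * y⁻¹ * (x * y) := by group
  rw [e, h] at h1
  have e2 : x⁻¹ * y⁻¹ * (y * x * r) = r := by group
  rwa [e2] at h1

theorem conj_mem_of_comm {M R : Subgroup G} (hM : M ≤ R) (hc : ∀ a ∈ R, ∀ b ∈ R, a * b * a⁻¹ * b⁻¹ ∈ M) {a m : G}
    (ha : a ∈ R) (hm : m ∈ M) : a * m * a⁻¹ ∈ M := by
  have h1 := mul_mem (hc a ha m (hM hm)) hm
  rwa [inv_mul_cancel_right] at h1

/-- the elements `e a 0 u` are squares -/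
theorem Z_mem [Finite F] {M : Subgroup G} {a : ZMod 8} (hs : ∀ p u, S.e a p u ^ 2 ∈ M) (u : F) : S.e a 0 u ∈ M := by
  rcases eq_or_ne u 0 with rfl | hu
  · rw [S.e_zero]; exact one_mem _
  · obtain ⟨χ, hχ⟩ := Arc.s1_surj S (Units.mk0 u hu)
    have h1 := hs χ 0
    rw [pow_two, Arc.e_sq] at h1
    have h2 : (χ : F) * σ (χ : F) = u := congrArg Units.val hχ
    rwa [h2] at h1

/-- **the trick with the two coordinates** -/
theorem trick {M : Subgroup G} {a : ZMod 8}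
    (hZ1 : ∀ u, S.e a 0 u ∈ M) (hZ2 : ∀ u, S.e (a + 1) 0 u ∈ M)
    (hn : ∀ p u, ∀ v, S.e a p u * S.e (a + 1) 0 v * (S.e a p u)⁻¹ ∈ M)
    {f g : F → F → F}
    (h : ∀ p q, ∃ A B, S.e a (f p q) A * S.e (a + 1) (g p q) B ∈ M)
    (hfg : ∀ z : F, ∃ p q p' q', g p q = g p' q' ∧ f p q + f p' q' = z) :
    (∀ p u, S.e a p u ∈ M) ∧ (∀ p q u, S.e (a + 1) (g p q) u ∈ M) := by
  have key : ∀ p u, S.e a p u ∈ M := by
    intro z u
    obtain ⟨p, q, p', q', h1, h2⟩ := hfg z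
    obtain ⟨A, B, hAB⟩ := h p q
    obtain ⟨A', B', hAB'⟩ := h p' q'
    have h3 := mul_mem hAB (inv_mem hAB')
    rw [← h1] at h3
    have e1 : S.e (a + 1) (g p q) B * (S.e (a + 1) (g p q) B')⁻¹ = S.e (a + 1) 0 (B + B') := by
      rw [Arc.e_inv, S.e_mul]
      congr 1
      · exact S.add_self _
      · calc _ = B + B' + (g p q * σ (g p q) + g p q * σ (g p q)) := by ring
          _ = _ := by rw [S.add_self, add_zero]
    have e2 : S.e a (f p q) A * S.e (a + 1) (g p q) B * (S.e a (f p' q') A' * S.e (a + 1) (g p q) B')⁻¹ =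
        (S.e a (f p q) A * S.e (a + 1) 0 (B + B') * (S.e a (f p q) A)⁻¹) *
          (S.e a (f p q) A * (S.e a (f p' q') A')⁻¹) := by
      rw [← e1]; group
    rw [e2] at h3
    have h4 := (Subgroup.mul_mem_cancel_left M (hn _ _ _)).1 h3
    rw [Arc.e_inv, S.e_mul, h2] at h4
    have h5 := mul_mem h4 (hZ1 (A + (A' + f p' q' * σ (f p' q')) + f p q * σ (f p' q') + u))
    rw [S.e_mul, add_zero, map_zero, mul_zero, add_zero] at h5
    have e3 : A + (A' + f p' q' * σ (f p' q')) + f p q * σ (f p' q') +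
      (A + (A' + f p' q' * σ (f p' q')) + f p q * σ (f p' q') + u) = u := by
      rw [← add_assoc, S.add_self, zero_add]
    rwa [e3] at h5
  refine ⟨key, fun p q u => ?_⟩
  obtain ⟨A, B, hAB⟩ := h p q
  have h1 := (Subgroup.mul_mem_cancel_left M (key _ _)).1 hAB
  have h2 := mul_mem h1 (hZ2 (B + u))
  rw [S.e_mul, add_zero, map_zero, mul_zero, add_zero, ← add_assoc, S.add_self, zero_add] at h2
  exact h2

/-- `NO ≤ Φ(J 2 8)` -/
theorem NO_le_frat [Finite F] (hF : ∃ c : Fˣ, c ≠ 1) {M : Subgroup G} (hM : M ≤ J S.XZ 2 8)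
    (hc : ∀ a ∈ J S.XZ 2 8, ∀ b ∈ J S.XZ 2 8, a * b * a⁻¹ * b⁻¹ ∈ M) (hs : ∀ a ∈ J S.XZ 2 8, a ^ 2 ∈ M) :
    S.NO ≤ M := by
  have J2 : ∀ p u, S.e 1 p u ∈ J S.XZ 2 8 := fun p u => mem_J (S.mX2 p u) (by norm_num) (by norm_num)
  have J4 : ∀ p u, S.e 2 p u ∈ J S.XZ 2 8 := fun p u => mem_J (S.mX4 p u) (by norm_num) (by norm_num)
  have J6 : ∀ p u, S.e 3 p u ∈ J S.XZ 2 8 := fun p u => mem_J (S.mX6 p u) (by norm_num) (by norm_num)
  have J8 : ∀ p u, S.e 4 p u ∈ J S.XZ 2 8 := fun p u => mem_J (S.mX8 p u) (by norm_num) (by norm_num)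
  have Z2 := Z_mem S (M := M) (a := 1) fun p u => hs _ (J2 p u)
  have Z4 := Z_mem S (M := M) (a := 2) fun p u => hs _ (J4 p u)
  have Z6 := Z_mem S (M := M) (a := 3) fun p u => hs _ (J6 p u)
  have Z8 := Z_mem S (M := M) (a := 4) fun p u => hs _ (J8 p u)
  have cm := @conj_mem_of_comm G _ M (J S.XZ 2 8) hM hc
  have o1 : ∀ t, S.o 1 t ∈ M := by
    intro t
    have h1 : S.e 1 t 0 * S.e 2 1 0 = S.e 2 1 0 * S.e 1 t 0 * S.o 1 (t * 1) := S.e_e1 1 t 0 1 0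
    rw [mul_one] at h1
    exact mem_of_rel hc (J2 _ _) (J4 _ _) h1
  have o2 : ∀ t, S.o 2 t ∈ M := by
    intro t
    have h1 : S.e 2 t 0 * S.e 3 1 0 = S.e 3 1 0 * S.e 2 t 0 * S.o 2 (t * 1) := S.e_e1 2 t 0 1 0
    rw [mul_one] at h1
    exact mem_of_rel hc (J4 _ _) (J6 _ _) h1
  have o3 : ∀ t, S.o 3 t ∈ M := by
    intro t
    have h1 : S.e 3 t 0 * S.e 4 1 0 = S.e 4 1 0 * S.e 3 t 0 * S.o 3 (t * 1) := S.e_e1 3 t 0 1 0
    rw [mul_one] at h1
    exact mem_of_rel hc (J6 _ _) (J8 _ _) h1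
  have h23 : ∀ p q : F, ∃ A B, S.e 2 (σ p * q) A * S.e 3 (p * σ q) B ∈ M := by
    intro p q
    have h1 : S.e 1 p 0 * S.e 4 q 0 = S.e 4 q 0 * S.e 1 p 0 * S.o 1 (p * σ p * q + 0 * q) * S.e 2 (σ p * q) (p * 0 * 0 + p * p * σ p * 0 + σ 0 * q * σ q + σ 0 * 0) * S.o 2 (0 * 0) * S.e 3 (p * σ q) (p * σ p * q * q * σ q + p * σ p * σ 0 + 0 * q * 0 + 0 * q * q * σ q + 0 * σ 0) * S.o 3 (p * q * σ q + p * 0) :=
      S.e_e3 1 p 0 q 0
    have h2 := mem_of_rel hc (J2 p 0) (J8 q 0)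
      (r := S.o 1 (p * σ p * q + 0 * q) * S.e 2 (σ p * q) (p * 0 * 0 + p * p * σ p * 0 + σ 0 * q * σ q + σ 0 * 0) * S.o 2 (0 * 0) * S.e 3 (p * σ q) (p * σ p * q * q * σ q + p * σ p * σ 0 + 0 * q * 0 + 0 * q * q * σ q + 0 * σ 0) * S.o 3 (p * q * σ q + p * 0))
      (h1.trans (by group))
    rw [Subgroup.mul_mem_cancel_right M (o3 _)] at h2
    set E2 := S.e 2 (σ p * q) (p * 0 * 0 + p * p * σ p * 0 + σ 0 * q * σ q + σ 0 * 0)
    set E3 := S.e 3 (p * σ q) (p * σ p * q * q * σ q + p * σ p * σ 0 + 0 * q * 0 + 0 * q * q * σ q + 0 * σ 0)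
    have e : S.o 1 (p * σ p * q + 0 * q) * E2 * S.o 2 (0 * 0) * E3 =
        S.o 1 (p * σ p * q + 0 * q) * ((E2 * S.o 2 (0 * 0) * E2⁻¹) * (E2 * E3)) := by group
    rw [e, Subgroup.mul_mem_cancel_left M (o1 _), Subgroup.mul_mem_cancel_left M (cm (J4 _ _) (o2 _))] at h2
    exact ⟨_, _, h2⟩
  obtain ⟨c, hc1⟩ := hF
  have hc1' : (1 : F) + (c : F)⁻¹ ≠ 0 := by
    intro h
    apply hc1
    have h2 : (c : F)⁻¹ = 1 := by
      have := S.add_self (1 : F)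
      have h3 : (1 : F) + (c : F)⁻¹ = 1 + 1 := by rw [h, this]
      exact add_left_cancel h3
    exact Units.ext (by rw [Units.val_one]; exact inv_eq_one.1 h2)
  have h46 := trick S (a := 2) (f := fun p q => σ p * q) (g := fun p q => p * σ q) Z4
    (fun u => Z6 u) (fun p u v => cm (J4 p u) (Z6 v)) (fun p q => h23 p q) (by
      intro z
      obtain ⟨s, hs'⟩ := Arc.σ_surj σ (z * ((1 : F) + (c : F)⁻¹)⁻¹)
      refine ⟨s, 1, s * (σ c)⁻¹, c, ?_, ?_⟩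
      · have hσc : σ (c : F) ≠ 0 := by
          rw [Ne, map_eq_zero]; exact c.ne_zero
        rw [map_one, mul_one, inv_mul_cancel_right₀ hσc]
      · have e1 : σ (s * (σ (c : F))⁻¹) * c = σ s * (c : F)⁻¹ := by
          rw [map_mul, map_inv₀, S.sq, pow_two]
          have := c.ne_zero
          field_simp
        rw [e1, mul_one, hs']
        calc z * (1 + (c : F)⁻¹)⁻¹ + z * (1 + (c : F)⁻¹)⁻¹ * (c : F)⁻¹ =
            z * ((1 + (c : F)⁻¹)⁻¹ * (1 + (c : F)⁻¹)) := by ring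
          _ = z := by rw [inv_mul_cancel₀ hc1', mul_one])
  have X4 : ∀ p u, S.e 2 p u ∈ M := h46.1
  have X6 : ∀ p u, S.e 3 p u ∈ M := by
    intro p u
    have := h46.2 p 1 u
    rw [show (2 : ZMod 8) + 1 = 3 by rfl] at this
    simpa using this
  intro n hn
  obtain ⟨u, v, r, hr, rfl⟩ := S.mem_NO_iff.1 hn
  refine mul_mem (mul_mem (Z2 u) ?_) (Z8 v)
  have : J S.XZ 3 7 ≤ M := by
    refine J_le fun k h1 h2 x hx => ?_
    interval_cases k
    · obtain ⟨t, rfl⟩ := S.X3 hx; exact o1 t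
    · obtain ⟨p, u, rfl⟩ := S.X4 hx; exact X4 p u
    · obtain ⟨t, rfl⟩ := S.X5 hx; exact o2 t
    · obtain ⟨p, u, rfl⟩ := S.X6 hx; exact X6 p u
    · obtain ⟨t, rfl⟩ := S.X7 hx; exact o3 t
  exact this hr

/-! ### the pairing with `X_5` -/

/-- `θ r = [r, o 2 1]` -/
def th (r : G) : G := r * S.o 2 1 * r⁻¹ * (S.o 2 1)⁻¹

theorem o21_mem : S.o 2 1 ∈ S.XZ 5 := S.mX5 1

theorem th_mem {r : G} (hr : r ∈ J S.XZ 2 8) : th S r ∈ S.W46 :=
  S.comm_five (J_mono (by norm_num) (by norm_num) hr) (o21_mem S)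

theorem th_mul {r s : G} (hr : r ∈ J S.XZ 2 8) (hs : s ∈ J S.XZ 2 8) : th S (r * s) = th S r * th S s := by
  have h1 : r * th S s = th S s * r := S.W46_comm hr (th_mem S hs)
  have h2 : th S s * th S r = th S r * th S s :=
    (S.W46_comm (J_mono (by norm_num) (by norm_num) (S.W46_le (th_mem S hr))) (th_mem S hs)).symm
  calc th S (r * s) = (r * th S s) * (S.o 2 1 * r⁻¹ * (S.o 2 1)⁻¹) := by unfold th; group
    _ = th S s * th S r := by rw [h1]; unfold th; group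
    _ = _ := h2

theorem th_inv {r : G} (hr : r ∈ J S.XZ 2 8) : th S r⁻¹ = (th S r)⁻¹ := by
  have h := th_mul S hr (inv_mem hr)
  rw [mul_inv_cancel] at h
  have h1 : th S (1 : G) = 1 := by unfold th; group
  rw [h1] at h
  exact (inv_eq_of_mul_eq_one_right h.symm).symm

theorem th_conj {y r : G} (hy : y ∈ S.LO) : th S (y * r * y⁻¹) = y * th S r * y⁻¹ := by
  have h1 : y * S.o 2 1 = S.o 2 1 * y :=
    ((Subgroup.mem_centralizer_iff.1 (S.LO_le_cent hy)) _ (o21_mem S)).symm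
  have h2 : y⁻¹ * S.o 2 1 * y = S.o 2 1 := by
    rw [mul_assoc, ← h1, inv_mul_cancel_left]
  have h3 : y * (S.o 2 1)⁻¹ * y⁻¹ = (S.o 2 1)⁻¹ := by
    have h4 : y * (S.o 2 1)⁻¹ = (S.o 2 1)⁻¹ * y := Commute.inv_right (show Commute y (S.o 2 1) from h1)
    rw [h4, mul_inv_cancel_right]
  calc th S (y * r * y⁻¹) = y * r * (y⁻¹ * S.o 2 1 * y) * r⁻¹ * y⁻¹ * (S.o 2 1)⁻¹ := by unfold th; group
    _ = y * r * S.o 2 1 * r⁻¹ * y⁻¹ * (y * (S.o 2 1)⁻¹ * y⁻¹) := by rw [h2, h3]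
    _ = _ := by unfold th; group

theorem th_surj {w : G} (hw : w ∈ S.W46) : ∃ s ∈ J S.XZ 2 8, th S s = w := by
  obtain ⟨u, v, rfl⟩ := S.mem_W46.1 hw
  have hA : th S (S.e 1 u 0) = S.e 2 0 u := by
    have h1 : S.e 1 u 0 * S.o 2 1 = S.o 2 1 * S.e 1 u 0 * S.e 2 0 (u * 1) := S.e_o1 1 u 0 1
    rw [mul_one] at h1
    have h2 : S.e 1 u 0 * S.e 2 0 u = S.e 2 0 u * S.e 1 u 0 := S.comm_Z4 (by norm_num) (by norm_num) (S.mX2 u 0) u
    have h3 : S.o 2 1 * S.e 2 0 u = S.e 2 0 u * S.o 2 1 := S.comm_Z4 (by norm_num) (by norm_num) (S.mX5 1) u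
    unfold th
    rw [h1, mul_assoc (S.o 2 1), h2, ← mul_assoc, h3]
    group
  have hB : th S (S.e 4 v 0) = S.e 3 0 v := by
    have h1 : S.o 2 1 * S.e 4 v 0 = S.e 4 v 0 * S.o 2 1 * S.e 3 0 (1 * v) := S.o_e2 2 1 v 0
    rw [one_mul] at h1
    have h2 : S.e 4 v 0 * S.o 2 1 = S.o 2 1 * S.e 4 v 0 * S.e 3 0 v := by
      rw [h1, mul_assoc (S.e 4 v 0 * S.o 2 1), ← pow_two, pow_two, Arc.e_sq, zero_mul, S.e_zero, mul_one]
    have h3 : S.e 4 v 0 * S.e 3 0 v = S.e 3 0 v * S.e 4 v 0 := S.comm_Z6 (by norm_num) (by norm_num) (S.mX8 v 0) v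
    have h4 : S.o 2 1 * S.e 3 0 v = S.e 3 0 v * S.o 2 1 := S.comm_Z6 (by norm_num) (by norm_num) (S.mX5 1) v
    unfold th
    rw [h2, mul_assoc (S.o 2 1), h3, ← mul_assoc, h4]
    group
  have h2 : S.e 1 u 0 ∈ J S.XZ 2 8 := mem_J (S.mX2 _ _) (by norm_num) (by norm_num)
  have h8 : S.e 4 v 0 ∈ J S.XZ 2 8 := mem_J (S.mX8 _ _) (by norm_num) (by norm_num)
  exact ⟨S.e 1 u 0 * S.e 4 v 0, mul_mem h2 h8, by rw [th_mul S h2 h8, hA, hB]⟩

theorem mem_NO_of_th {n : G} (hn : n ∈ J S.XZ 2 8) (h : th S n = 1) : n ∈ S.NO := by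
  refine S.mem_NO_of_comm hn (s := 1) one_ne_zero ?_
  unfold th at h
  rw [mul_inv_eq_one, mul_inv_eq_iff_eq_mul] at h
  exact h

theorem LO_norm_W46 {y w : G} (hy : y ∈ S.LO) (hw : w ∈ S.W46) : y * w * y⁻¹ ∈ S.W46 :=
  S.W46_conj (S.LO_le_J hy) hw

/-- `w ↦ [y, w]` is onto on `W46` -/
theorem comm_surj [Finite G] {y : G} (hy : y ∈ S.LO) (hfix : ∀ w ∈ S.W46, y * w = w * y → w = 1) {w : G}
    (hw : w ∈ S.W46) : ∃ w' ∈ S.W46, y * w' * y⁻¹ * w'⁻¹ = w := by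
  let f : S.W46 → S.W46 := fun z => ⟨y * z * y⁻¹ * (z : G)⁻¹, mul_mem (LO_norm_W46 S hy z.2) (inv_mem z.2)⟩
  have hf : Function.Injective f := by
    rintro ⟨a, ha⟩ ⟨b, hb⟩ hab
    have h1 : y * a * y⁻¹ * a⁻¹ = y * b * y⁻¹ * b⁻¹ := congrArg Subtype.val hab
    have h2 : y * (b⁻¹ * a) * y⁻¹ = b⁻¹ * a := by
      have e1 : y * (b⁻¹ * a) * y⁻¹ = (y * b * y⁻¹)⁻¹ * (y * a * y⁻¹ * a⁻¹) * a := by group
      rw [e1, h1]
      have e2 : (y * b * y⁻¹)⁻¹ * (y * b * y⁻¹ * b⁻¹) * a = b⁻¹ * a := by group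
      exact e2
    have h3 := hfix _ (mul_mem (inv_mem hb) ha) (mul_inv_eq_iff_eq_mul.1 h2)
    exact Subtype.ext (inv_mul_eq_one.1 h3).symm
  obtain ⟨z, hz⟩ := Finite.injective_iff_surjective.1 hf ⟨w, hw⟩
  exact ⟨z, z.2, congrArg Subtype.val hz⟩

theorem LO_norm_J {y r : G} (hy : y ∈ S.LO) (hr : r ∈ J S.XZ 2 8) : y * r * y⁻¹ ∈ J S.XZ 2 8 :=
  S.zsys8.conj_J (a := 2) (b := 8) (c := 1) (d := 9) (by norm_num) (by norm_num) (by norm_num) (S.LO_le_J hy) hr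

/-- **`[J 2 8, y] = J 2 8`** -/
theorem comm_full [Finite F] [Finite G] (hF : ∃ c : Fˣ, c ≠ 1) (hR : S.R.p = 2) {y : G} (hy : y ∈ S.LO)
    (hfix : ∀ w ∈ S.W46, y * w = w * y → w = 1) : Cfsg.Agent.H398.FPR.CommFull (J S.XZ 2 8) y := by
  have hfact : Fact (Nat.Prime 2) := ⟨Nat.prime_two⟩
  refine commFull_of (q := 2) (Cfsg.Agent.KFacts.TwF4.Perf.two_J S hR (by norm_num)) fun M hM hc hs hyM r hr => ?_
  have hNO := NO_le_frat S hF hM hc hs
  obtain ⟨w, hw, hwe⟩ := comm_surj S hy hfix (th_mem S hr)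
  obtain ⟨s, hs', rfl⟩ := th_surj S hw
  have h1 : th S (y * s * y⁻¹ * s⁻¹) = th S r := by
    rw [th_mul S (LO_norm_J S hy hs') (inv_mem hs'), th_conj S hy, th_inv S hs']
    exact hwe
  have h2 : y * s * y⁻¹ * s⁻¹ ∈ J S.XZ 2 8 := mul_mem (LO_norm_J S hy hs') (inv_mem hs')
  have h3 : (y * s * y⁻¹ * s⁻¹)⁻¹ * r ∈ S.NO := by
    refine mem_NO_of_th S (mul_mem (inv_mem h2) hr) ?_
    rw [th_mul S (inv_mem h2) hr, th_inv S h2, h1, inv_mul_cancel]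
  have h4 := mul_mem (hyM s hs') (hNO h3)
  rwa [mul_inv_cancel_left] at h4

end Cfsg.Agent.H448.FprTwF
end
end

-- part: H448/FprTwF/SzPair
section
set_option linter.all false
open scoped Cfsg.Agent.FastGrp

-- part: H448/FprTwF/Rad
section
/-!
# Radicals from coprime action (helper448)

`pair_coprime` : if an element `x` of order `p` normalises a `q`-group `K`, `q ≠ p`, then `(x, [K, x])` is a pair in the
sense of `Cfsg.Agent.H398.FPR`.
-/

set_option autoImplicit false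

namespace Cfsg.Agent.H448.FprTwF

open Subgroup
open scoped commutatorElement

universe u

variable {G : Type u} [Group G]

theorem comm_zpowers_le {x : G} {R M : Subgroup G} (hn : ∀ r ∈ R, x * r * x⁻¹ ∈ R)
    (h : ∀ r ∈ R, x * r * x⁻¹ * r⁻¹ ∈ M) (hx : IsOfFinOrder x) : ⁅R, zpowers x⁆ ≤ M := by
  have key : ∀ n : ℕ, ∀ r ∈ R, x ^ n * r * (x ^ n)⁻¹ ∈ R ∧ x ^ n * r * (x ^ n)⁻¹ * r⁻¹ ∈ M := by
    intro n
    induction n with
    | zero =>
      intro r hr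
      simp [hr]
    | succ n ih =>
      intro r hr
      obtain ⟨h1, h2⟩ := ih r hr
      have e : x ^ (n + 1) * r * (x ^ (n + 1))⁻¹ = x * (x ^ n * r * (x ^ n)⁻¹) * x⁻¹ := by
        rw [pow_succ']; group
      rw [e]
      refine ⟨hn _ h1, ?_⟩
      have h3 := mul_mem (h _ h1) h2
      have e2 : x * (x ^ n * r * (x ^ n)⁻¹) * x⁻¹ * (x ^ n * r * (x ^ n)⁻¹)⁻¹ * (x ^ n * r * (x ^ n)⁻¹ * r⁻¹) =
          x * (x ^ n * r * (x ^ n)⁻¹) * x⁻¹ * r⁻¹ := by group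
      rwa [e2] at h3
  rw [commutator_le]
  intro r hr a ha
  obtain ⟨n, rfl⟩ : ∃ n : ℕ, x ^ n = a := by
    have := hx.mem_powers_iff_mem_zpowers.2 ha
    exact Submonoid.mem_powers_iff _ _ |>.1 this
  have h1 := inv_mem (key n r hr).2
  rw [commutatorElement_def]
  have e : (x ^ n * r * (x ^ n)⁻¹ * r⁻¹)⁻¹ = r * x ^ n * r⁻¹ * (x ^ n)⁻¹ := by group
  rwa [e] at h1

theorem pair_coprime [Finite G] {p q : ℕ} [hp : Fact p.Prime] [hq : Fact q.Prime] (hpq : p ≠ q) {K : Subgroup G}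
    (hK : IsPGroup q K) {x : G} (hx : orderOf x = p) (hn : x ∈ normalizer (K : Set G)) :
    Cfsg.Agent.H398.FPR.Pair p 0 x ⁅K, zpowers x⁆ := by
  have hA : zpowers x ≤ normalizer (K : Set G) := (zpowers_le).2 hn
  have hle : ⁅K, zpowers x⁆ ≤ K := Cfsg.Agent.Lib.CoprimeCommutator.commutator_le_left hA
  have hcop : (Nat.card (zpowers x)).Coprime (Nat.card K) := by
    obtain ⟨n, hn⟩ := hK.exists_card_eq
    rw [hn, Nat.card_zpowers, hx]
    exact Nat.Coprime.pow_right n ((Nat.coprime_primes hp.out hq.out).2 hpq)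
  refine ⟨(hK.to_le hle).isNilpotent, ?_, ?_⟩
  · exact Cfsg.Agent.Lib.CoprimeCommutator.right_le_normalizer_commutator K (zpowers x) (mem_zpowers x)
  · rw [pow_zero, pow_one]
    intro R1 hR1 hc
    have h1 := comm_zpowers_le (x := x) (fun r hr =>
      (mem_normalizer_iff.1 (Cfsg.Agent.Lib.CoprimeCommutator.right_le_normalizer_commutator K (zpowers x)
        (mem_zpowers x)) r).1 hr) hc (isOfFinOrder_of_finite x)
    rw [Cfsg.Agent.Lib.CoprimeCommutator.commutator_commutator_eq (zpowers x) K hA hcop] at h1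
    exact absurd hR1 (not_lt_of_ge h1)

end Cfsg.Agent.H448.FprTwF
end

-- part: H448/FprTwF/SzPair
section
/-!
# The radical of the parabolic of Suzuki type in `²F₄` (helper448)

`Q2_le_rad` : an element `x` of prime order `p`, not dividing `q - 1`, of the Levi factor `⟨X_0, X_8⟩` satisfies
`Q2 ≤ [Q, x]`.
-/

set_option autoImplicit false
set_option linter.unusedSectionVars false

namespace Cfsg.Agent.H448.FprTwF

open Cfsg.Agent.KFacts.TwF4 Cfsg.Agent.KFacts.TwF4.Full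
open Cfsg.Agent.SplitTwo Cfsg.Agent.SplitTwo.ZS Cfsg.Agent.TitsThree.RankTwoZ
open Cfsg.Agent.SplitTwo.RootSysZ Subgroup
open scoped commutatorElement

universe u

variable {F : Type*} [Field F] {σ : F →+* F} {G : Type u} [Group G] (S : Full σ G)

/-- commuting modulo `Z_4` -/
def PZ (g s : G) : Prop := ∃ z ∈ S.Zc 2, g * s = z * (s * g)

theorem PZ_comm {g s : G} (h : g * s = s * g) : PZ S g s := ⟨1, one_mem _, by rw [one_mul]; exact h⟩

theorem PZ_rel {g s r : G} (hg : g ∈ S.PL) (hs : s ∈ S.PL) (h : g * s = s * g * r) (hr : r ∈ S.Zc 2) : PZ S g s :=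
  ⟨r, hr, by rw [h]; exact S.comm_PL (mul_mem hs hg) hr⟩

theorem PZ_symm {g s : G} (h : PZ S g s) : PZ S s g := by
  obtain ⟨z, hz, h⟩ := h
  exact ⟨z⁻¹, inv_mem hz, by rw [h, inv_mul_cancel_left]⟩

/-- the elements commuting with `g` modulo `Z_4` -/
def Cz (g : G) : Subgroup G where
  carrier := {s | s ∈ S.PL ∧ PZ S g s}
  one_mem' := ⟨one_mem _, PZ_comm S (by rw [one_mul, mul_one])⟩
  mul_mem' := by
    rintro s s' ⟨hs, z, hz, h⟩ ⟨hs', z', hz', h'⟩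
    refine ⟨mul_mem hs hs', z * z', mul_mem hz hz', ?_⟩
    calc g * (s * s') = (g * s) * s' := by group
      _ = z * s * (g * s') := by rw [h]; group
      _ = z * (s * z') * s' * g := by rw [h']; group
      _ = z * (z' * s) * s' * g := by rw [S.comm_PL hs hz']
      _ = _ := by group
  inv_mem' := by
    rintro s ⟨hs, z, hz, h⟩
    refine ⟨inv_mem hs, z⁻¹, inv_mem hz, ?_⟩
    have h2 : s * (g * s⁻¹) = s * (z⁻¹ * (s⁻¹ * g)) := by
      have h3 : z * (s * g) * s⁻¹ = g := by rw [← h]; group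
      have h5 : s * z⁻¹ = z⁻¹ * s := S.comm_PL hs (inv_mem hz)
      calc s * (g * s⁻¹) = z⁻¹ * (z * (s * g) * s⁻¹) := by group
        _ = z⁻¹ * g := by rw [h3]
        _ = z⁻¹ * s * s⁻¹ * g := by group
        _ = s * z⁻¹ * s⁻¹ * g := by rw [h5]
        _ = _ := by group
    exact mul_left_cancel h2

theorem Q_le_PL : S.Q ≤ S.PL := J_mono (by norm_num) (by norm_num)

/-- `[Q, Q2] ≤ Z4` -/
theorem PZ_Q {g s : G} (hg : g ∈ S.Q) (hs : s ∈ S.Q2) : PZ S g s := by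
  have p1 : ∀ t, S.o 0 t ∈ S.PL := fun t => mem_J (S.mX1 t) (by norm_num) (by norm_num)
  have p2 : ∀ p u, S.e 1 p u ∈ S.PL := fun p t => mem_J (S.mX2 p t) (by norm_num) (by norm_num)
  have p3 : ∀ t, S.o 1 t ∈ S.PL := fun t => mem_J (S.mX3 t) (by norm_num) (by norm_num)
  have p4 : ∀ p u, S.e 2 p u ∈ S.PL := fun p t => mem_J (S.mX4 p t) (by norm_num) (by norm_num)
  have p5 : ∀ t, S.o 2 t ∈ S.PL := fun t => mem_J (S.mX5 t) (by norm_num) (by norm_num)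
  have p6 : ∀ p u, S.e 3 p u ∈ S.PL := fun p t => mem_J (S.mX6 p t) (by norm_num) (by norm_num)
  have p7 : ∀ t, S.o 3 t ∈ S.PL := fun t => mem_J (S.mX7 t) (by norm_num) (by norm_num)
  have z2 : ∀ u, S.e 2 0 u ∈ S.Zc 2 := fun u => ⟨u, rfl⟩
  have hQ2 : S.Q2 ≤ S.PL := (Layers.Q2_le_Q S).trans (Q_le_PL S)
  have key : ∀ k : ℤ, 1 ≤ k → k ≤ 7 → ∀ x ∈ S.XZ k, S.Q2 ≤ Cz S x := by
    intro k h1 h2 x hx
    by_cases h35 : 3 ≤ k ∧ k ≤ 5
    · have hx1 : x ∈ S.Q1 := Irr.J35_le_Q1 S (mem_J hx h35.1 h35.2)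
      exact fun s hs => ⟨hQ2 hs, PZ_comm S (S.Q1_comm hx1 hs)⟩
    · have h' : k = 1 ∨ k = 2 ∨ k = 6 ∨ k = 7 := by omega
      rcases h' with rfl | rfl | rfl | rfl
      · obtain ⟨t, rfl⟩ := S.X1 hx
        refine S.Q2_le (fun u => ⟨p2 _ _, PZ_comm S (S.o_e1 0 t 0 u)⟩) (fun s => ⟨p3 _, PZ_comm S (S.o_o1 0 t s)⟩)
          (fun u => ⟨p4 _ _, PZ_comm S (S.comm_Z4 (by norm_num) (by norm_num) (S.mX1 t) u)⟩)
          (fun s => ⟨p5 _, PZ_comm S (S.o_o2 0 t s)⟩) (fun v => ⟨p6 _ _, PZ_rel S (r := S.e 2 0 (t * v)) (p1 t) (p6 0 v) ?_ (z2 _)⟩)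
        have h3 : S.o 0 t * S.e 3 0 v = S.e 3 0 v * S.o 0 t * S.e 1 0 (σ t * 0) * S.o 1 (t * σ 0) *
          S.e 2 0 (t * 0 * σ 0 + t * v) := S.o_e3 0 t 0 v
        rw [map_zero, mul_zero, mul_zero, mul_zero, zero_add, S.e_zero, S.o_zero, mul_one, mul_one] at h3
        exact h3
      · obtain ⟨p, u, rfl⟩ := S.X2 hx
        refine S.Q2_le (fun v => ⟨p2 _ _, PZ_comm S ?_⟩) (fun s => ⟨p3 _, PZ_comm S (S.e_o0 1 p u s)⟩)
          (fun v => ⟨p4 _ _, PZ_comm S (S.comm_Z4 (by norm_num) (by norm_num) (S.mX2 p u) v)⟩)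
          (fun s => ⟨p5 _, PZ_rel S (r := S.e 2 0 (p * s)) (p2 p u) (p5 s) (S.e_o1 1 p u s) (z2 _)⟩)
          (fun v => ⟨p6 _ _, PZ_comm S (S.e_e2 1 p u 0 v)⟩)
        rw [S.e_mul, S.e_mul, map_zero, mul_zero, add_zero, add_zero, zero_mul, add_zero, zero_add, add_comm u v]
      · obtain ⟨p, u, rfl⟩ := S.X6 hx
        refine S.Q2_le (fun v => ⟨p2 _ _, PZ_comm S (S.e_e2 1 0 v p u).symm⟩)
          (fun s => ⟨p3 _, PZ_symm S (PZ_rel S (r := S.e 2 0 (s * p)) (p3 s) (p6 p u) (S.o_e2 1 s p u) (z2 _))⟩)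
          (fun v => ⟨p4 _ _, PZ_comm S (S.comm_Z4 (by norm_num) (by norm_num) (S.mX6 p u) v)⟩)
          (fun s => ⟨p5 _, PZ_comm S (S.o_e1 2 s p u).symm⟩)
          (fun v => ⟨p6 _ _, PZ_comm S ?_⟩)
        rw [S.e_mul, S.e_mul, map_zero, mul_zero, add_zero, add_zero, zero_mul, add_zero, zero_add, add_comm u v]
      · obtain ⟨t, rfl⟩ := S.X7 hx
        refine S.Q2_le (fun u => ⟨p2 _ _, PZ_symm S (PZ_rel S (r := S.e 2 0 (u * t)) (p2 0 u) (p7 t) ?_ (z2 _))⟩)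
          (fun s => ⟨p3 _, PZ_comm S (S.o_o2 1 s t).symm⟩)
          (fun v => ⟨p4 _ _, PZ_comm S (S.comm_Z4 (by norm_num) (by norm_num) (S.mX7 t) v)⟩)
          (fun s => ⟨p5 _, PZ_comm S (S.o_o1 2 s t).symm⟩)
          (fun v => ⟨p6 _ _, PZ_comm S (S.e_o0 3 0 v t).symm⟩)
        have h3 : S.e 1 0 u * S.o 3 t = S.o 3 t * S.e 1 0 u * S.e 2 0 (0 * σ 0 * t + u * t) * S.o 2 (σ 0 * t) *
          S.e 3 0 (0 * σ t) := S.e_o2 1 0 u t
        rw [map_zero, zero_mul, zero_mul, zero_mul, zero_add, S.o_zero, S.e_zero, mul_one, mul_one] at h3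
        exact h3
  have h1 : S.Q ≤ Cz S s := J_le fun k hk1 hk2 x hx =>
    ⟨mem_J hx (by omega) (by omega), PZ_symm S (key k hk1 hk2 x hx hs).2⟩
  exact PZ_symm S (h1 hg).2

/-- `[Q1, Q1] ≤ Z4` -/
theorem PZ_Q1 {g s : G} (hg : g ∈ S.Q1) (hs : s ∈ S.Q1) : PZ S g s := by
  have hQ2 : S.Q2 ≤ S.PL := (Layers.Q2_le_Q S).trans (Q_le_PL S)
  have p4 : ∀ p u, S.e 2 p u ∈ S.PL := fun p t => mem_J (S.mX4 p t) (by norm_num) (by norm_num)
  have h4 : ∀ x ∈ S.XZ 4, S.Q1 ≤ Cz S x := by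
    intro x hx
    refine sup_le (fun y hy => ?_) (fun y hy => ⟨hQ2 hy, PZ_comm S (S.Q1_comm ((le_sup_left : S.XZ 4 ≤ S.Q1) hx) hy)⟩)
    obtain ⟨p, u, rfl⟩ := S.X4 hx
    obtain ⟨q, v, rfl⟩ := S.X4 hy
    refine ⟨p4 _ _, PZ_rel S (r := S.e 2 0 (p * σ q + q * σ p)) (p4 _ _) (p4 _ _) ?_ ⟨_, rfl⟩⟩
    rw [S.e_mul, S.e_mul, S.e_mul, map_zero, mul_zero, add_zero, add_zero, add_comm p q]
    congr 1
    calc u + v + p * σ q = v + u + p * σ q + 0 := by ring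
      _ = v + u + p * σ q + (q * σ p + q * σ p) := by rw [S.add_self]
      _ = _ := by ring
  have h1 : S.Q1 ≤ Cz S s := by
    refine sup_le (fun y hy => ?_) (fun y hy => ⟨hQ2 hy, PZ_comm S (S.Q1_comm hs hy)⟩)
    exact ⟨mem_J hy (by norm_num) (by norm_num), PZ_symm S (h4 y hy hs).2⟩
  exact PZ_symm S (h1 hg).2


open Cfsg.Agent.Lib.CoprimeCommutator in
/-- the elements of `Q` centralised by `x` lie in `Q1` -/
theorem cent_Q1 [Finite F] [Finite G] (hR : S.R.p = 2) {p : ℕ} [hp : Fact p.Prime] (hp2 : p ≠ 2) {x : G} (hx : x ∈ S.PL)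
    (hxo : orderOf x = p) (hpl : ∀ s ∈ S.Q2, x * s = s * x → s ∈ S.Zc 2) {c : G} (hc : c ∈ S.Q)
    (hxc : x * c = c * x) : c ∈ S.Q1 := by
  rw [← S.centralizer_Q2, mem_centralizer_iff]
  intro s hs
  have hP : IsPGroup p (zpowers x) := IsPGroup.of_card (n := 1) (by rw [pow_one, Nat.card_zpowers, hxo])
  have hPK : zpowers x ≤ normalizer (S.Q2 : Set G) := zpowers_le.2 (S.Q2_norm hx)
  have h2 : IsPGroup 2 S.Q2 := (Cfsg.Agent.KFacts.TwF4.Perf.two_J S hR (a := 2) (b := 6) (by norm_num)).to_le S.Q2_le_J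
  have hfact : Fact (Nat.Prime 2) := ⟨Nat.prime_two⟩
  have hpK : ¬ p ∣ Nat.card S.Q2 := by
    obtain ⟨n, hn⟩ := h2.exists_card_eq
    rw [hn]
    intro h
    exact hp2 ((Nat.prime_dvd_prime_iff_eq hp.out Nat.prime_two).1 (hp.out.dvd_of_dvd_pow h))
  obtain ⟨m, hm, c', hc', rfl⟩ := exists_commutator_mul_fixed_of_isPGroup p (zpowers x) S.Q2 hP hPK hpK s hs
  have hcc : c * c' = c' * c := by
    have h3 : c' ∈ S.Zc 2 := hpl c' hc'.1 (mem_centralizer_iff.1 hc'.2 x (mem_zpowers x))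
    exact S.comm_PL (Q_le_PL S hc) h3
  have hm' : ⁅S.Q2, zpowers x⁆ ≤ centralizer {c} := by
    rw [commutator_le]
    intro s hs a ha
    rw [mem_centralizer_singleton_iff, commutatorElement_def]
    obtain ⟨z, hz, h⟩ := PZ_Q S hc hs
    have haP : a ∈ S.PL := (zpowers_le.2 hx : zpowers x ≤ S.PL) ha
    have hsP : s ∈ S.PL := (Q_le_PL S) ((Layers.Q2_le_Q S) hs)
    have hca : a * c = c * a := by
      have h3 : zpowers x ≤ centralizer {c} := by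
        rw [zpowers_le, mem_centralizer_singleton_iff]
        exact hxc
      exact mem_centralizer_singleton_iff.1 (h3 ha)
    have h1 : c * s * c⁻¹ = z * s := by rw [h]; group
    have h3 : c * (a * s⁻¹ * a⁻¹) * c⁻¹ = a * s⁻¹ * a⁻¹ * z⁻¹ := by
      calc c * (a * s⁻¹ * a⁻¹) * c⁻¹ = (c * a) * s⁻¹ * (c * a)⁻¹ := by group
        _ = (a * c) * s⁻¹ * (a * c)⁻¹ := by rw [hca]
        _ = a * (c * s * c⁻¹)⁻¹ * a⁻¹ := by group
        _ = a * (s⁻¹ * (z⁻¹ * a⁻¹)) := by rw [h1]; group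
        _ = a * (s⁻¹ * (a⁻¹ * z⁻¹)) := by rw [S.comm_PL (inv_mem haP) (inv_mem hz)]
        _ = _ := by group
    have h4 : c * (s * a * s⁻¹ * a⁻¹) * c⁻¹ = s * a * s⁻¹ * a⁻¹ := by
      calc c * (s * a * s⁻¹ * a⁻¹) * c⁻¹ = (c * s * c⁻¹) * (c * (a * s⁻¹ * a⁻¹) * c⁻¹) := by group
        _ = z * (s * a * s⁻¹ * a⁻¹) * z⁻¹ := by rw [h1, h3]; group
        _ = s * a * s⁻¹ * a⁻¹ := by
          rw [← S.comm_PL (mul_mem (mul_mem (mul_mem hsP haP) (inv_mem hsP)) (inv_mem haP)) hz, mul_inv_cancel_right]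
    exact (mul_inv_eq_iff_eq_mul.1 h4).symm
  have hmc : m * c = c * m := mem_centralizer_singleton_iff.1 (hm' hm)
  calc m * c' * c = m * (c' * c) := by group
    _ = m * c * c' := by rw [← hcc]; group
    _ = c * (m * c') := by rw [hmc]; group

/-- the product of a subgroup of `PL` with `Z_4` -/
def NZ (R : Subgroup G) (hR : R ≤ S.PL) : Subgroup G where
  carrier := {g | ∃ r ∈ R, ∃ z ∈ S.Zc 2, g = r * z}
  one_mem' := ⟨1, one_mem _, 1, one_mem _, by rw [one_mul]⟩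
  mul_mem' := by
    rintro _ _ ⟨r, hr, z, hz, rfl⟩ ⟨r', hr', z', hz', rfl⟩
    refine ⟨r * r', mul_mem hr hr', z * z', mul_mem hz hz', ?_⟩
    calc r * z * (r' * z') = r * (z * r') * z' := by group
      _ = r * (r' * z) * z' := by rw [S.comm_PL (hR hr') hz]
      _ = _ := by group
  inv_mem' := by
    rintro _ ⟨r, hr, z, hz, rfl⟩
    refine ⟨r⁻¹, inv_mem hr, z⁻¹, inv_mem hz, ?_⟩
    rw [mul_inv_rev, S.comm_PL (inv_mem (hR hr)) (inv_mem hz)]

open Cfsg.Agent.Lib.CoprimeCommutator in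
theorem Q2_le_rad [Finite F] [Finite G] (hR : S.R.p = 2) {p : ℕ} [hp : Fact p.Prime] (hp2 : p ≠ 2) {x : G} (hx : x ∈ S.PL)
    (hxo : orderOf x = p) (hpl : ∀ s ∈ S.Q2, x * s = s * x → s ∈ S.Zc 2) :
    S.Q2 ≤ ⁅S.Q, zpowers x⁆ := by
  have hP : IsPGroup p (zpowers x) := IsPGroup.of_card (n := 1) (by rw [pow_one, Nat.card_zpowers, hxo])
  have hPQ : zpowers x ≤ normalizer (S.Q : Set G) :=
    zpowers_le.2 ((S.zsys8.le_normalizer (a := 1) (b := 7) (by norm_num)) hx)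
  have h2 : IsPGroup 2 S.Q := Cfsg.Agent.KFacts.TwF4.Perf.two_J S hR (a := 1) (b := 7) (by norm_num)
  have hfact : Fact (Nat.Prime 2) := ⟨Nat.prime_two⟩
  have hpK : ¬ p ∣ Nat.card S.Q := by
    obtain ⟨n, hn⟩ := h2.exists_card_eq
    rw [hn]
    intro h
    exact hp2 ((Nat.prime_dvd_prime_iff_eq hp.out Nat.prime_two).1 (hp.out.dvd_of_dvd_pow h))
  set R : Subgroup G := ⁅S.Q, zpowers x⁆ with hRd
  have hRQ : R ≤ S.Q := commutator_le_left hPQ
  have hRPL : R ≤ S.PL := hRQ.trans (Q_le_PL S)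
  have hnorm : ∀ g ∈ S.Q, ∀ r ∈ R, g * r * g⁻¹ ∈ R := fun g hg r hr =>
    (mem_normalizer_iff.1 (left_le_normalizer_commutator S.Q (zpowers x) hg) r).1 hr
  have h3 : S.Q2 ≤ NZ S R hRPL := by
    rw [← Layers.comm_Q S, commutator_le]
    intro q1 hq1 q2 hq2
    obtain ⟨m1, hm1, c1, hc1, rfl⟩ := exists_commutator_mul_fixed_of_isPGroup p (zpowers x) S.Q hP hPQ hpK q1 hq1
    obtain ⟨m2, hm2, c2, hc2, rfl⟩ := exists_commutator_mul_fixed_of_isPGroup p (zpowers x) S.Q hP hPQ hpK q2 hq2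
    have k1 := cent_Q1 S hR hp2 hx hxo hpl hc1.1 (mem_centralizer_iff.1 hc1.2 x (mem_zpowers x))
    have k2 := cent_Q1 S hR hp2 hx hxo hpl hc2.1 (mem_centralizer_iff.1 hc2.2 x (mem_zpowers x))
    obtain ⟨z, hz, h⟩ := PZ_Q1 S k1 k2
    have m1' : c2 * m1⁻¹ * c2⁻¹ ∈ R := hnorm c2 hc2.1 _ (inv_mem hm1)
    have m2' : c1 * m2 * c1⁻¹ ∈ R := hnorm c1 hc1.1 _ hm2
    refine ⟨m1 * (c1 * m2 * c1⁻¹) * ((c2 * m1⁻¹ * c2⁻¹) * m2⁻¹), mul_mem (mul_mem hm1 m2') (mul_mem m1' (inv_mem hm2)), z, hz, ?_⟩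
    have h4 : c1 * c2 * c1⁻¹ * c2⁻¹ = z := by rw [h]; group
    rw [commutatorElement_def]
    calc m1 * c1 * (m2 * c2) * (m1 * c1)⁻¹ * (m2 * c2)⁻¹
        = m1 * (c1 * m2 * c1⁻¹) * ((c1 * c2 * c1⁻¹ * c2⁻¹) * ((c2 * m1⁻¹ * c2⁻¹) * m2⁻¹)) := by group
      _ = m1 * (c1 * m2 * c1⁻¹) * (z * ((c2 * m1⁻¹ * c2⁻¹) * m2⁻¹)) := by rw [h4]
      _ = m1 * (c1 * m2 * c1⁻¹) * (((c2 * m1⁻¹ * c2⁻¹) * m2⁻¹) * z) := by
          rw [S.comm_PL (hRPL (mul_mem m1' (inv_mem hm2))) hz]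
      _ = _ := by group
  have hZ : S.Zc 2 ≤ R := by
    rintro _ ⟨t, rfl⟩
    obtain ⟨r, hr, z, hz, h⟩ := h3 (S.q2_5 1)
    have h4 : S.o 0 t * S.e 3 0 1 = S.e 3 0 1 * S.o 0 t * S.e 1 0 (σ t * 0) * S.o 1 (t * σ 0) *
      S.e 2 0 (t * 0 * σ 0 + t * 1) := S.o_e3 0 t 0 1
    rw [map_zero, mul_zero, mul_zero, mul_zero, zero_add, S.e_zero, S.o_zero, mul_one, mul_one, mul_one] at h4
    have hoQ : S.o 0 t ∈ S.Q := mem_J (S.mX1 t) (by norm_num) (by norm_num)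
    have h5 : S.e 2 0 t = (S.o 0 t)⁻¹ * r⁻¹ * (S.o 0 t)⁻¹⁻¹ * r := by
      have h6 : S.e 2 0 t = (S.e 3 0 1 * S.o 0 t)⁻¹ * (S.o 0 t * S.e 3 0 1) := by rw [h4]; group
      rw [h6, h]
      have h7 : z⁻¹ * r⁻¹ = r⁻¹ * z⁻¹ := (S.comm_PL (inv_mem (hRPL hr)) (inv_mem hz)).symm
      have h8 : (S.o 0 t * r) * z = z * (S.o 0 t * r) := S.comm_PL (mul_mem (Q_le_PL S hoQ) (hRPL hr)) hz
      calc (r * z * S.o 0 t)⁻¹ * (S.o 0 t * (r * z)) = (S.o 0 t)⁻¹ * (z⁻¹ * r⁻¹) * ((S.o 0 t * r) * z) := by group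
        _ = (S.o 0 t)⁻¹ * (r⁻¹ * z⁻¹) * (z * (S.o 0 t * r)) := by rw [h7, h8]
        _ = _ := by group
    rw [h5]
    exact mul_mem (hnorm _ (inv_mem hoQ) _ (inv_mem hr)) hr
  intro s hs
  obtain ⟨r, hr, z, hz, rfl⟩ := h3 hs
  exact mul_mem hr (hZ hz)

end Cfsg.Agent.H448.FprTwF
end
end
end
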