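import Mathlib
import Cfsg.Agent.H448.FprTwF.Plus
import Cfsg.Agent.H448.FprTwF.SzPair
import Cfsg.Agent.H398.FPR.PairMap_m3
import Cfsg.Agent.H448.FprCent.SteTor
import Cfsg.Agent.H398.FPR.Count
import Cfsg.Agent.H934.HeisTwF4
import Cfsg.Agent.S1072
import Cfsg.Agent.S1068
import Cfsg.Agent.H62.PPTwF4
import Cfsg.Agent.FastGrp
import Cfsg.Agent.Prune
set_option linter.all false
prune_inst 0x7f00000000000000000000000000000000000000000000000000000000000000000000000000000000000000000000000000000000000000000000000000000000000000000000000000000000000000003fffffffffffffffffffffffffffbeffbdffffffff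
open scoped Cfsg.Agent.FastGrp

-- part: H448/FprTwF/Minus
section
/-!
# The row `p ∣ q - 1` for the groups `²F₄(q)` (helper448)
-/

set_option autoImplicit false
set_option linter.unusedSectionVars false

namespace Cfsg.Agent.H448.FprTwF

open Cfsg.Agent.KFacts.TwF4 Cfsg.Agent.KFacts.TwF4.Full
open Cfsg.Agent.SplitTwo Cfsg.Agent.SplitTwo.ZS Cfsg.Agent.TitsThree.RankTwoZ
open Cfsg.Agent.SplitTwo.RootSysZ Subgroup MulAction Cfsg.Agent.H409

universe u

variable {F : Type*} [Field F] {σ : F →+* F} {G : Type u} [Group G] (S : Full σ G) {H : Subgroup G}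

theorem idx_ge [Finite G] [Finite F] (hq : 2 ≤ Nat.card F) (hU : Nat.card (J S.XZ 1 8) = Nat.card F ^ 12)
    (hcard : Nat.card G = Nat.card F ^ 12 * (Nat.card F - 1) * (Nat.card F ^ 3 + 1) * (Nat.card F ^ 4 - 1) *
      (Nat.card F ^ 6 + 1)) {M : Subgroup G} (hUM : J S.XZ 1 8 ≤ M) (hMt : M ≠ ⊤) : Nat.card F ^ 9 ≤ M.index := by
  have h1 := Cfsg.Agent.H62.PPTwF4.card_M S hUM hMt
  rw [hU] at h1
  have h2 : Nat.card M * M.index = Nat.card G := Subgroup.card_mul_index M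
  set q := Nat.card F with hqd
  rw [hcard, ord_eq hq] at h2
  by_contra hcon
  push Not at hcon
  have h3 : q ^ 9 ≤ (q + 1) ^ 2 * (q ^ 2 - q + 1) * (q ^ 6 + 1) := by
    obtain ⟨a, ha⟩ : ∃ a, q = a + 1 := ⟨q - 1, by omega⟩
    have e2 : q ^ 2 - q + 1 = a * (a + 1) + 1 := by
      have : q ^ 2 = a * (a + 1) + q := by rw [ha]; ring
      omega
    have e3 : q ^ 3 ≤ (q + 1) ^ 2 * (q ^ 2 - q + 1) := by
      rw [e2, ha]
      linarith only [Nat.zero_le (a ^ 4), Nat.zero_le (a ^ 3), _root_.sq_nonneg (↑a : ℤ)]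
    calc q ^ 9 = q ^ 3 * q ^ 6 := by ring
      _ ≤ ((q + 1) ^ 2 * (q ^ 2 - q + 1)) * (q ^ 6 + 1) := Nat.mul_le_mul e3 (by omega)
      _ = _ := by ring
  have h4 : Nat.card M * M.index < (q ^ 12 * (((q - 1) * (q - 1)) * (q * q + 1))) *
      ((q + 1) ^ 2 * (q ^ 2 - q + 1) * (q ^ 6 + 1)) := by
    calc Nat.card M * M.index < Nat.card M * q ^ 9 := Nat.mul_lt_mul_of_pos_left hcon Nat.card_pos
      _ ≤ _ := Nat.mul_le_mul h1 h3
  rw [h2] at h4
  refine absurd h4 (not_lt.2 (le_of_eq ?_))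
  ring

/-- **The row `p ∣ q - 1`.** -/
theorem fpr_minus [Finite G] [Finite F] (hR : S.R.p = 2) (h8 : 8 ≤ Nat.card F)
    (hU : Nat.card (J S.XZ 1 8) = Nat.card F ^ 12)
    (hcard : Nat.card G = Nat.card F ^ 12 * (Nat.card F - 1) * (Nat.card F ^ 3 + 1) * (Nat.card F ^ 4 - 1) *
      (Nat.card F ^ 6 + 1)) {p : ℕ} [hp : Fact p.Prime] (hpq : p ∣ Nat.card F - 1) : FprRow (p + 1) 1 p G := by
  have : Fintype F := Fintype.ofFinite F
  have h1 : p ∣ Nat.card Fˣ := by rwa [Nat.card_units]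
  obtain ⟨c, hc⟩ := exists_prime_orderOf_dvd_card' p h1
  have hto : orderOf (S.h c c⁻¹) = p := by
    refine orderOf_eq_prime ?_ ?_
    · rw [Cfsg.Agent.KFacts.TwF4.Arc.h_pow, inv_pow, ← hc, pow_orderOf_eq_one, inv_one, S.h_one]
    · intro h
      have h4 := S.h_e c c⁻¹ 0 1 0
      rw [h, one_mul, inv_one, mul_one] at h4
      have h5 := (S.injE 0 _ _ _ _ h4).1
      rw [mul_one, chE_zero] at h5
      have h6 : c = 1 := Units.ext (by rw [Units.val_one]; exact h5.symm)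
      rw [h6, orderOf_one] at hc
      exact hp.out.one_lt.ne hc
  have hT1 : S.h c c⁻¹ ∈ S.Tk 1 := S.mem_Tk_one.2 ⟨c, rfl⟩
  refine fun H hH => ⟨S.h c c⁻¹, ⟨1, by rw [pow_one]; exact hto⟩, fpr_torus S hR hT1 hto (fun K hK hKt => ?_) hH⟩
  have h3 := idx_ge S (by omega) hU hcard hK hKt
  have h4 : p + 1 ≤ Nat.card F := by
    have := Nat.le_of_dvd (by omega) hpq
    omega
  show _ ≤ K.index
  calc (p + 1) * (Nat.card F * 32) ≤ Nat.card F * (Nat.card F * (Nat.card F ^ 7)) := by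
        gcongr
        calc 32 ≤ 8 ^ 7 := by norm_num
          _ ≤ _ := Nat.pow_le_pow_left h8 7
    _ = Nat.card F ^ 9 := by ring
    _ ≤ _ := h3

end Cfsg.Agent.H448.FprTwF
end

-- part: H448/FprTwF/SzGen
section
/-!
# Generation of `²F₄` by two opposite abelian subgroups (helper448)

`gen_of_Q2` : a subgroup containing `Q2` and its opposite is the whole group.
-/

set_option autoImplicit false
set_option linter.unusedSectionVars false

namespace Cfsg.Agent.H448.FprTwF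

open Cfsg.Agent.KFacts.TwF4 Cfsg.Agent.KFacts.TwF4.Full
open Cfsg.Agent.SplitTwo Cfsg.Agent.SplitTwo.ZS Cfsg.Agent.TitsThree.RankTwoZ
open Cfsg.Agent.SplitTwo.RootSysZ Subgroup

universe u

variable {F : Type*} [Field F] {σ : F →+* F} {G : Type u} [Group G] (S : Full σ G) {H : Subgroup G}

theorem rot4_o (a : ZMod 8) (t : F) : S.rot ^ 4 * S.o a t * (S.rot ^ 4)⁻¹ = S.o (a + 4) t := by
  have h1 := S.rot_o a t
  have h2 := S.rot_o (a + 1) t
  have h3 := S.rot_o (a + 1 + 1) t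
  have h4 := S.rot_o (a + 1 + 1 + 1) t
  rw [← h3, ← h2, ← h1] at h4
  rw [show a + 4 = a + 1 + 1 + 1 + 1 by ring, ← h4]
  simp only [pow_succ, pow_zero, one_mul, mul_inv_rev, mul_assoc]

theorem rot4_e (a : ZMod 8) (p u : F) : S.rot ^ 4 * S.e a p u * (S.rot ^ 4)⁻¹ = S.e (a + 4) p u := by
  have h1 := S.rot_e a p u
  have h2 := S.rot_e (a + 1) p u
  have h3 := S.rot_e (a + 1 + 1) p u
  have h4 := S.rot_e (a + 1 + 1 + 1) p u
  rw [← h3, ← h2, ← h1] at h4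
  rw [show a + 4 = a + 1 + 1 + 1 + 1 by ring, ← h4]
  simp only [pow_succ, pow_zero, one_mul, mul_inv_rev, mul_assoc]

/-- enough elements generate -/
theorem top_of_coord (ho : ∀ a t, S.o a t ∈ H) (he : ∀ a p u, S.e a p u ∈ H) : H = ⊤ := by
  refine top_of_all (S := S) fun k => ?_
  rcases Int.even_or_odd' k with ⟨a, rfl | rfl⟩
  · intro x hx
    obtain ⟨p, u, rfl⟩ := (S.mem_XZ_even a x).1 hx
    exact he _ _ _
  · intro x hx
    obtain ⟨t, rfl⟩ := (S.mem_XZ_odd a x).1 hx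
    exact ho _ _

/-- odd root groups and centres of even root groups generate -/
theorem top_of_z (hF : ∃ c : Fˣ, c ≠ 1) (ho : ∀ a t, S.o a t ∈ H) (hz : ∀ a u, S.e a 0 u ∈ H) : H = ⊤ := by
  refine top_of_coord S ho fun b p u => ?_
  obtain ⟨a, rfl⟩ : ∃ a : ZMod 8, b = a + 2 := ⟨b - 2, by ring⟩
  have key : ∀ t v : F, ∃ A B, S.e (a + 2) (σ t * v) A * S.e (a + 2 + 1) (t * v) B ∈ H := by
    intro t v
    have h1 := S.o_e4 a t 0 v
    have e2 : σ t * 0 * σ 0 + σ t * v = σ t * v := by rw [mul_zero, zero_mul, zero_add]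
    have e1 : t * 0 = 0 := mul_zero t
    rw [e2, show a + 3 = a + 2 + 1 by ring] at h1
    set E1 := S.e (a + 1) (t * 0) (t * σ t * 0 * σ 0 + t * σ t * v) with hE1
    have hE1' : E1 ∈ H := by rw [hE1, e1]; exact hz _ _
    set O1 := S.o (a + 1) (t * σ t * 0 * v + t * σ t * 0 * 0 * σ 0 + t * σ t * σ v)
    have hO1 : O1 ∈ H := ho _ _
    set O2 := S.o (a + 2) (t * σ t * σ 0 * σ v + t * σ t * 0 * 0 * σ 0 * σ 0 + t * σ t * v * v) with hO2'
    have hO2 : O2 ∈ H := ho _ _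
    have hc : O2 * S.e (a + 2 + 1) (t * v) (t * σ t * 0 * v * v + t * σ t * 0 * σ 0 * σ v + t * σ t * 0 * 0 * 0 * σ 0 * σ 0) =
      S.e (a + 2 + 1) (t * v) (t * σ t * 0 * v * v + t * σ t * 0 * σ 0 * σ v + t * σ t * 0 * 0 * 0 * σ 0 * σ 0) * O2 :=
      S.o_e1 (a + 2) _ _ _
    set E3 := S.e (a + 2 + 1) (t * v) (t * σ t * 0 * v * v + t * σ t * 0 * σ 0 * σ v + t * σ t * 0 * 0 * 0 * σ 0 * σ 0) with hE3
    set O3 := S.o (a + 2 + 1) (t * 0 * v + t * 0 * 0 * σ 0 + t * σ v)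
    have hO3 : O3 ∈ H := ho _ _
    refine ⟨t * t * σ t * 0 * v * v + t * t * σ t * 0 * 0 * σ 0 * v + t * t * σ t * v * σ v,
      t * σ t * 0 * v * v + t * σ t * 0 * σ 0 * σ v + t * σ t * 0 * 0 * 0 * σ 0 * σ 0, ?_⟩
    set E2 := S.e (a + 2) (σ t * v) (t * t * σ t * 0 * v * v + t * t * σ t * 0 * 0 * σ 0 * v + t * t * σ t * v * σ v) with hE2
    have h2 : E2 * E3 = (S.e (a + 4) 0 v * S.o a t * E1 * O1)⁻¹ * (S.o a t * S.e (a + 4) 0 v) * O3⁻¹ * O2⁻¹ := by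
      rw [h1]
      have : E2 * O2 * E3 = E2 * E3 * O2 := by rw [mul_assoc, hc, mul_assoc]
      calc E2 * E3 = E2 * E3 * O2 * O2⁻¹ := by group
        _ = E2 * O2 * E3 * O2⁻¹ := by rw [this]
        _ = _ := by group
    rw [← hE3, h2]
    have ha := ho a t
    have hb := hz (a + 4) v
    exact mul_mem (mul_mem (mul_mem (inv_mem (mul_mem (mul_mem (mul_mem hb ha) hE1') hO1)) (mul_mem ha hb))
      (inv_mem hO3)) (inv_mem hO2)
  obtain ⟨c, hc1⟩ := hF
  have hc0 : (c : F) ≠ 0 := c.ne_zero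
  have hne : σ (c : F) * (c : F)⁻¹ + 1 ≠ 0 := by
    intro h
    apply hc1
    have h2 : σ (c : F) * (c : F)⁻¹ = 1 := by
      have := S.add_self (1 : F)
      exact add_right_cancel (h.trans this.symm)
    have h3 : σ (c : F) = c := (mul_inv_eq_one₀ hc0).1 h2
    have h4 : (c : F) ^ 2 = c := by
      rw [← S.sq, h3, h3]
    have h5 : (c : F) = 1 := by
      have : (c : F) * c = c * 1 := by rw [← pow_two, h4, mul_one]
      exact mul_left_cancel₀ hc0 this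
    exact Units.ext (by rw [Units.val_one]; exact h5)
  refine (trick S (M := H) (a := a + 2) (f := fun t v => σ t * v) (g := fun t v => t * v) (hz _) (hz _) ?_ key ?_).1 p u
  · intro p u v
    have h1 := S.e_e1 (a + 2) p u 0 v
    rw [mul_zero, S.o_zero, mul_one] at h1
    rw [h1, mul_inv_cancel_right]
    exact hz _ _
  · intro z
    set g := z * (σ (c : F) * (c : F)⁻¹ + 1)⁻¹ with hg
    refine ⟨c, (c : F)⁻¹ * g, 1, g, ?_, ?_⟩
    · show (c : F) * ((c : F)⁻¹ * g) = 1 * g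
      rw [mul_inv_cancel_left₀ hc0, one_mul]
    · show σ (c : F) * ((c : F)⁻¹ * g) + σ 1 * g = z
      rw [map_one]
      calc σ (c : F) * ((c : F)⁻¹ * g) + 1 * g = (σ (c : F) * (c : F)⁻¹ + 1) * g := by ring
        _ = z * ((σ (c : F) * (c : F)⁻¹ + 1)⁻¹ * (σ (c : F) * (c : F)⁻¹ + 1)) := by rw [hg]; ring
        _ = z := by rw [inv_mul_cancel₀ hne, mul_one]

/-- `Q2` and its opposite generate -/
theorem gen_of_Q2 (hF : ∃ c : Fˣ, c ≠ 1) (h1 : S.Q2 ≤ H) (h2 : ∀ s ∈ S.Q2, S.rot ^ 4 * s * (S.rot ^ 4)⁻¹ ∈ H) :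
    H = ⊤ := by
  have o1 : ∀ t, S.o 1 t ∈ H := fun t => h1 (S.q2_2 t)
  have o2 : ∀ t, S.o 2 t ∈ H := fun t => h1 (S.q2_4 t)
  have o5 : ∀ t, S.o 5 t ∈ H := fun t => by
    have := h2 _ (S.q2_2 t)
    rw [rot4_o] at this
    exact this
  have o6 : ∀ t, S.o 6 t ∈ H := fun t => by
    have := h2 _ (S.q2_4 t)
    rw [rot4_o] at this
    exact this
  have z1 : ∀ t, S.e 1 0 t ∈ H := fun t => h1 (S.q2_1 t)
  have z2 : ∀ t, S.e 2 0 t ∈ H := fun t => h1 (S.q2_3 t)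
  have z3 : ∀ t, S.e 3 0 t ∈ H := fun t => h1 (S.q2_5 t)
  have z5 : ∀ t, S.e 5 0 t ∈ H := fun t => by
    have := h2 _ (S.q2_1 t)
    rw [rot4_e] at this
    exact this
  have z6 : ∀ t, S.e 6 0 t ∈ H := fun t => by
    have := h2 _ (S.q2_3 t)
    rw [rot4_e] at this
    exact this
  have z7 : ∀ t, S.e 7 0 t ∈ H := fun t => by
    have := h2 _ (S.q2_5 t)
    rw [rot4_e] at this
    exact this
  have H3 : Has S H 3 := fun x hx => by obtain ⟨t, rfl⟩ := S.X3 hx; exact o1 t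
  have H5 : Has S H 5 := fun x hx => by obtain ⟨t, rfl⟩ := S.X5 hx; exact o2 t
  have H11 : Has S H (3 + 8) := fun x hx => by
    obtain ⟨t, rfl⟩ := (S.mem_XZ_odd 5 x).1 hx
    exact o5 t
  have H13 : Has S H (5 + 8) := fun x hx => by
    obtain ⟨t, rfl⟩ := (S.mem_XZ_odd 6 x).1 hx
    exact o6 t
  have H9 : Has S H 9 := (H3.refl H11 H5 :)
  have H7 : Has S H 7 := (H5.refl H13 H11 :)
  have H1 : Has S H 1 := (H3.refl H11 H13 :)
  have H15 : Has S H 15 := (H5.refl H13 H3 :)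
  have hn1 : S.n1 ∈ H := (sup_le H1 H9 : S.LO ≤ H) S.n1_mem_LO
  have z4 : ∀ t, S.e 4 0 t ∈ H := fun t => by
    have h3 := S.n1_e 1 0 t
    rw [show (5 : ZMod 8) - 1 = 4 by rfl] at h3
    rw [← h3]
    exact mul_mem (mul_mem hn1 (z1 t)) (inv_mem hn1)
  have z0 : ∀ t, S.e 0 0 t ∈ H := fun t => by
    have h3 := S.n1_e 5 0 t
    rw [show (5 : ZMod 8) - 5 = 0 by rfl] at h3
    rw [← h3]
    exact mul_mem (mul_mem hn1 (z5 t)) (inv_mem hn1)
  have all8 : ∀ a : ZMod 8, a = 0 ∨ a = 1 ∨ a = 2 ∨ a = 3 ∨ a = 4 ∨ a = 5 ∨ a = 6 ∨ a = 7 := by decide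
  refine top_of_z S hF (fun a t => ?_) (fun a t => ?_)
  · rcases all8 a with rfl | rfl | rfl | rfl | rfl | rfl | rfl | rfl
    · exact H1 (S.o_mem 0 t)
    · exact o1 t
    · exact o2 t
    · exact H7 (S.o_mem 3 t)
    · exact H9 (S.o_mem 4 t)
    · exact o5 t
    · exact o6 t
    · exact H15 (S.o_mem 7 t)
  · rcases all8 a with rfl | rfl | rfl | rfl | rfl | rfl | rfl | rfl
    · exact z0 t
    · exact z1 t
    · exact z2 t
    · exact z3 t
    · exact z4 t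
    · exact z5 t
    · exact z6 t
    · exact z7 t

end Cfsg.Agent.H448.FprTwF
end

-- part: H448/FprTwF/Suz
section
/-!
# The row `p ∣ q ^ 2 + 1` for the groups `²F₄(q)` (helper448)
-/

set_option autoImplicit false
set_option linter.unusedSectionVars false

namespace Cfsg.Agent.H448.FprTwF

open Cfsg.Agent.KFacts.TwF4 Cfsg.Agent.KFacts.TwF4.Full
open Cfsg.Agent.SplitTwo Cfsg.Agent.SplitTwo.ZS Cfsg.Agent.TitsThree.RankTwoZ
open Cfsg.Agent.SplitTwo.RootSysZ Subgroup MulAction Cfsg.Agent.H409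
open scoped commutatorElement

universe u

theorem no_two_pow {q p : ℕ} (hp : p.Prime) (hp2 : p ≠ 2) (h : p ∣ q ^ 2 + 1) (t : ℕ) : 2 ^ t ≠ p + 1 := by
  have hfp : Fact p.Prime := ⟨hp⟩
  have h1 : ((q : ZMod p)) ^ 2 = -1 := by
    have := (ZMod.natCast_eq_zero_iff _ p).2 h
    push_cast at this
    linear_combination this
  have h2 := ZMod.mod_four_ne_three_of_sq_eq_neg_one h1
  have h3 : ¬ 2 ∣ p := fun h => hp2 ((Nat.prime_dvd_prime_iff_eq Nat.prime_two hp).1 h).symm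
  intro ht
  have hp1 := hp.two_le
  rcases t with _ | _ | t
  · simp at ht; omega
  · simp at ht; omega
  · have : 2 ^ (t + 1 + 1) = 4 * 2 ^ t := by ring
    (clear * - h2 ht; omega)

variable {F : Type*} [Field F] {σ : F →+* F} {G : Type u} [Group G] (S : Full σ G) {H : Subgroup G}

/-- an element of order `p` in the Suzuki type rank one group -/
theorem exists_x [Finite G] [Finite F] {p : ℕ} [hp : Fact p.Prime] (h : p ∣ Nat.card F ^ 2 + 1) :
    ∃ y ∈ Irr.L4 S, orderOf y = p := by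
  have h1 := Cfsg.Agent.H42.Tw.card_succ_dvd S.zsys8 (X_ne S 0)
  rw [card_X0'] at h1
  obtain ⟨y, hy⟩ := exists_prime_orderOf_dvd_card' p (h.trans h1)
  refine ⟨y, y.2, ?_⟩
  rw [← hy]
  exact orderOf_injective (S.XZ 0 ⊔ S.XZ (0 + 8)).subtype (subtype_injective _) y

theorem rot4_L4 {x : G} (hx : x ∈ Irr.L4 S) : (S.rot ^ 4)⁻¹ * x * S.rot ^ 4 ∈ Irr.L4 S := by
  have h : Irr.L4 S ≤ (Irr.L4 S).comap (MulAut.conj (S.rot ^ 4)⁻¹).toMonoidHom := by
    have h16o : ∀ a t, (S.rot ^ 4)⁻¹ * S.o a t * S.rot ^ 4 = S.o (a + 4) t := by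
      intro a t
      have := rot4_o S (a + 4) t
      rw [show a + 4 + 4 = a by rw [add_assoc]; exact add_zero a] at this
      rw [← this]; group
    have h16e : ∀ a p u, (S.rot ^ 4)⁻¹ * S.e a p u * S.rot ^ 4 = S.e (a + 4) p u := by
      intro a p u
      have := rot4_e S (a + 4) p u
      rw [show a + 4 + 4 = a by rw [add_assoc]; exact add_zero a] at this
      rw [← this]; group
    refine sup_le (fun y hy => ?_) (fun y hy => ?_)
    · obtain ⟨p, u, rfl⟩ := (S.mem_XZ_even 0 y).1 hy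
      show (S.rot ^ 4)⁻¹ * S.e ((0 : ℤ) : ZMod 8) p u * (S.rot ^ 4)⁻¹⁻¹ ∈ Irr.L4 S
      rw [inv_inv, h16e]
      exact Irr.X8_L4 S (S.mX8 p u)
    · obtain ⟨p, u, rfl⟩ := S.X8 hy
      show (S.rot ^ 4)⁻¹ * S.e 4 p u * (S.rot ^ 4)⁻¹⁻¹ ∈ Irr.L4 S
      rw [inv_inv, h16e]
      exact Irr.X0_L4 S (S.e_mem 0 p u)
  have := h hx
  have e : (MulAut.conj (S.rot ^ 4)⁻¹).toMonoidHom x = (S.rot ^ 4)⁻¹ * x * S.rot ^ 4 := by
    show (S.rot ^ 4)⁻¹ * x * (S.rot ^ 4)⁻¹⁻¹ = _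
    rw [inv_inv]
  rw [mem_comap, e] at this
  exact this

/-- **The row `p ∣ q ^ 2 + 1`.** -/
theorem fpr_sz [Finite G] [Finite F] (hF : ∃ c : Fˣ, c ≠ 1) (hR : S.R.p = 2) (h2 : 2 ∣ Nat.card F)
    {p : ℕ} [hp : Fact p.Prime] (hpq : p ∣ Nat.card F ^ 2 + 1) : FprRow (p + 1) 1 p G := by
  have hq : 2 ≤ Nat.card F := Nat.le_of_dvd Nat.card_pos h2
  obtain ⟨-, -, n1, n2⟩ := num_cop h2 hq
  have hp2 : p ≠ 2 := by rintro rfl; exact n1 hpq
  have hpq1 : ¬ p ∣ Nat.card F - 1 := fun h =>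
    hp.out.one_lt.ne' (Nat.dvd_one.1 (n2 ▸ Nat.dvd_gcd hpq h))
  have hfact : Fact (Nat.Prime 2) := ⟨Nat.prime_two⟩
  obtain ⟨x, hx, hxo⟩ := exists_x S hpq
  have key : ∀ y ∈ Irr.L4 S, orderOf y = p → S.Q2 ≤ ⁅S.Q, zpowers y⁆ := by
    intro y hy hyo
    have hyp : y ^ p = 1 := by rw [← hyo]; exact pow_orderOf_eq_one y
    have hy1 : y ≠ 1 := by
      rintro rfl
      rw [orderOf_one] at hyo
      exact hp.out.one_lt.ne hyo
    refine Q2_le_rad S hR hp2 (Irr.L4_le_PL S hy) hyo fun s hs h => ?_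
    by_contra h4
    exact hpq1 (Cfsg.Agent.PreUniq.LowExc.TwF4.pl_case (S := S) hF hR hp.out hp2 hyp hy1 (Irr.L4_le_PL S hy) hs h4 h)
  set c := (MulAut.conj (S.rot ^ 4)).toMonoidHom with hc
  set y := (S.rot ^ 4)⁻¹ * x * S.rot ^ 4 with hy
  have hyL : y ∈ Irr.L4 S := rot4_L4 S hx
  have hcy : c y = x := by
    show S.rot ^ 4 * ((S.rot ^ 4)⁻¹ * x * S.rot ^ 4) * (S.rot ^ 4)⁻¹ = x
    group
  have hyo : orderOf y = p := by
    rw [← hxo, ← hcy]
    exact (orderOf_injective c (MulAut.conj (S.rot ^ 4)).injective y).symm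
  have hQ2 : IsPGroup 2 S.Q := Cfsg.Agent.KFacts.TwF4.Perf.two_J S hR (a := 1) (b := 7) (by norm_num)
  have hPLn : S.PL ≤ normalizer (S.Q : Set G) := S.zsys8.le_normalizer (a := 1) (b := 7) (by norm_num)
  have hn1 : x ∈ normalizer (S.Q : Set G) := hPLn (Irr.L4_le_PL S hx)
  have hny : y ∈ normalizer (S.Q : Set G) := hPLn (Irr.L4_le_PL S hyL)
  have hn2 : x ∈ normalizer ((S.Q.map c : Subgroup G) : Set G) := by
    rw [← hcy]
    rw [mem_normalizer_iff]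
    intro g
    constructor
    · rintro ⟨r, hr, rfl⟩
      exact ⟨y * r * y⁻¹, (mem_normalizer_iff.1 hny r).1 hr, by rw [map_mul, map_mul, map_inv]⟩
    · rintro ⟨r, hr, h⟩
      refine ⟨y⁻¹ * r * y, ?_, ?_⟩
      · refine (mem_normalizer_iff.1 hny _).2 ?_
        have e : y * (y⁻¹ * r * y) * y⁻¹ = r := by group
        rw [e]; exact hr
      · rw [map_mul, map_mul, map_inv, h]; group
  have hP1 := pair_coprime (p := p) (q := 2) hp2 hQ2 hxo hn1
  have hP2 := pair_coprime (p := p) (q := 2) hp2 (hQ2.map c) hxo hn2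
  have hR1 : IsPGroup 2 ↥(⁅S.Q, zpowers x⁆ : Subgroup G) :=
    hQ2.to_le (Cfsg.Agent.Lib.CoprimeCommutator.commutator_le_left (zpowers_le.2 hn1))
  have hR2 : IsPGroup 2 ↥(⁅S.Q.map c, zpowers x⁆ : Subgroup G) :=
    (hQ2.map c).to_le (Cfsg.Agent.Lib.CoprimeCommutator.commutator_le_left (zpowers_le.2 hn2))
  have hgen : _root_.Subgroup.closure ({x} ∪ ((⁅S.Q, zpowers x⁆ : Subgroup G) : Set G) ∪ ((⁅S.Q.map c, zpowers x⁆ : Subgroup G) : Set G)) = ⊤ := by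
    refine gen_of_Q2 S hF ?_ ?_
    · exact fun s hs => _root_.Subgroup.subset_closure (Or.inl (Or.inr (key x hx hxo hs)))
    · intro s hs
      refine _root_.Subgroup.subset_closure (Or.inr ?_)
      have h3 : c s ∈ (⁅S.Q, zpowers y⁆).map c := ⟨s, key y hyL hyo hs, rfl⟩
      rw [map_commutator, MonoidHom.map_zpowers, hcy] at h3
      exact h3
  have hU := Cfsg.Agent.H435.Fpr.T3_sharp hp.out Nat.prime_two (no_two_pow hp.out hp2 hpq) (x := x) (k := 1)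
    (by rw [pow_one, ← hxo]; exact pow_orderOf_eq_one x) hP1 hP2 hR1 hR2 hgen
  exact fun H hH => ⟨x, ⟨1, by rw [pow_one]; exact hxo⟩, hU H hH⟩

end Cfsg.Agent.H448.FprTwF
end

-- part: H448/FprTwF/Cyc
section
/-!
# `²F₄(q)`, `q > 2`: the primes `p ∣ q² - q + 1`, `p ∣ q⁴ - q² + 1` (helper448)
-/

set_option autoImplicit false
set_option linter.unusedSectionVars false

namespace Cfsg.Agent.H448.FprTwF

open Subgroup MulAction Cfsg.Agent.SplitTwo.ZS Cfsg.Agent.KFacts.TwF4 Cfsg.Agent.KFacts.TwF4.Perf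
open Cfsg.Agent.KFacts.TwF4.SylU
open Cfsg.Agent.H409 (FprRow)

universe u v

section NoInv

variable {F : Type u} [Field F] {σ : F →+* F} {G : Type v} [Group G] (S : Full σ G)

theorem PL_le_N17 : S.PL ≤ normalizer (J S.XZ 1 7 : Set G) := by
  refine J_le fun k h1 h2 => ?_
  by_cases h0 : k = 0
  · subst h0; exact X0_le_N17 S
  · exact (X_le_J (by omega) h2).trans (le_sup_left.trans (B_le_N17 S))

theorem J19_le_N28 : J S.XZ 1 9 ≤ normalizer (J S.XZ 2 8 : Set G) := by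
  refine J_le fun k h1 h2 => ?_
  by_cases h0 : k = 9
  · subst h0; exact X9_le_N28 S
  · exact (X_le_J h1 (by omega)).trans (le_sup_left.trans (B_le_N28 S))

/-- **No involution commutes with an element of prime order `p ∤ 2 (q - 1) (q + 1) (q² + 1)`.** -/
theorem no_inv [Finite G] [Finite F] (hF : ∃ c : Fˣ, c ≠ 1) (hR : S.R.p = 2) (h2 : 2 ∣ Nat.card F) {p : ℕ}
    (hp : p.Prime) (hp2 : p ≠ 2) (h1 : ¬ p ∣ Nat.card F - 1) (h3 : ¬ p ∣ Nat.card F + 1)
    (h4 : ¬ p ∣ Nat.card F ^ 2 + 1) {x t : G} (hx : orderOf x = p) (ht : orderOf t = 2) (hc : Commute t x) : False := by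
  have hB : (Nat.card (Bo S)).Coprime p := by
    refine cop_B S hF hR ?_ ?_
    · intro h; exact hp2 ((Nat.prime_dvd_prime_iff_eq Nat.prime_two hp).1 h).symm
    · exact (Nat.Prime.coprime_iff_not_dvd hp).2 h1
  have key : ∀ {K : Subgroup G} {a : ℕ} (k : G), Nat.card K = Nat.card (Bo S) * a → ¬ p ∣ a → k * x * k⁻¹ ∈ K → False := by
    intro K a k hK ha hk
    have ho : orderOf (k * x * k⁻¹) = p := by
      rw [← hx]
      exact orderOf_injective (MulAut.conj k).toMonoidHom (MulAut.conj k).injective x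
    have h5 : p ∣ Nat.card K := by
      rw [← ho]
      exact Subgroup.orderOf_dvd_natCard K hk
    rw [hK] at h5
    rcases hp.dvd_mul.1 h5 with h6 | h6
    · exact (Nat.Prime.coprime_iff_not_dvd hp).1 hB.symm h6
    · exact ha h6
  have ht2 : t * t = 1 := by rw [← pow_two, ← ht]; exact pow_orderOf_eq_one t
  have ht1 : t ≠ 1 := by
    rintro rfl
    rw [orderOf_one] at ht
    exact absurd ht (by norm_num)
  have hcen : ∀ k : G, k * x * k⁻¹ * (k * t * k⁻¹) = k * t * k⁻¹ * (k * x * k⁻¹) := by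
    intro k
    calc k * x * k⁻¹ * (k * t * k⁻¹) = k * (x * t) * k⁻¹ := by group
      _ = k * (t * x) * k⁻¹ := by rw [hc.eq]
      _ = _ := by group
  rcases classes S hF hR ht2 ht1 with ⟨u, hu, k, hk⟩ | ⟨s, hs, k, hk⟩
  · have e1 : S.rot * (S.rot * k) * t * (S.rot * (S.rot * k))⁻¹ = S.e 2 0 u := by
      calc S.rot * (S.rot * k) * t * (S.rot * (S.rot * k))⁻¹ = S.rot * (S.rot * (k * t * k⁻¹) * S.rot⁻¹) * S.rot⁻¹ := by
            group
        _ = S.e 2 0 u := by rw [hk, S.rot_e, S.rot_e]; rfl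
    have hz1 : S.e 2 0 u ≠ 1 := fun h => hu (S.e_eq_one h).2
    refine key (S.rot * (S.rot * k)) (card_N17 S hF hR h2) h4 (PL_le_N17 S ?_)
    rw [← S.centralizer_z (z := S.e 2 0 u) ⟨u, rfl⟩ hz1, Subgroup.mem_centralizer_singleton_iff, ← e1]
    exact hcen _
  · have e1 : S.rot * (S.rot * k) * t * (S.rot * (S.rot * k))⁻¹ = S.o 2 s := by
      calc S.rot * (S.rot * k) * t * (S.rot * (S.rot * k))⁻¹ = S.rot * (S.rot * (k * t * k⁻¹) * S.rot⁻¹) * S.rot⁻¹ := by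
            group
        _ = S.o 2 s := by rw [hk, S.rot_o, S.rot_o]; rfl
    refine key (S.rot * (S.rot * k)) (card_N28 S hF hR h2) h3 (J19_le_N28 S (HO_le_J S ?_))
    rw [← S.centralizer_o hs, Subgroup.mem_centralizer_singleton_iff, ← e1]
    exact hcen _

end NoInv

/-- numbers -/
theorem num_cyc {q : ℕ} (hq : 8 ≤ q) {N : ℕ} (hN : (N : ℝ) ≤ (Real.sqrt q + 1) ^ 4) : (N + 1) * N ≤ 2 * q ^ 5 := by
  set s := Real.sqrt q with hs
  have hs0 : 0 ≤ s := Real.sqrt_nonneg _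
  have hs2 : s ^ 2 = q := Real.sq_sqrt (Nat.cast_nonneg q)
  have hq' : (8 : ℝ) ≤ q := by exact_mod_cast hq
  have hs1 : (28 / 10 : ℝ) ≤ s := by
    rw [hs]
    apply Real.le_sqrt_of_sq_le
    norm_num only []
    linarith only [hq']
  have h1 : s + 1 ≤ 19 / 14 * s := by linarith only [hs1]
  have h2 : (s + 1) ^ 4 ≤ 17 / 5 * (q : ℝ) ^ 2 := by
    calc (s + 1) ^ 4 ≤ (19 / 14 * s) ^ 4 := pow_le_pow_left₀ (by positivity) h1 4
      _ = 130321 / 38416 * (s ^ 2) ^ 2 := by ring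
      _ ≤ 17 / 5 * (s ^ 2) ^ 2 := mul_le_mul_of_nonneg_right (by norm_num) (by positivity)
      _ = _ := by rw [hs2]
  have h3 : (N : ℝ) ≤ 17 / 5 * (q : ℝ) ^ 2 := hN.trans h2
  have h4 : ((N : ℝ) + 1) * N ≤ 2 * (q : ℝ) ^ 5 := by
    have hN0 : (0 : ℝ) ≤ N := Nat.cast_nonneg N
    have h5 : (q : ℝ) ^ 5 = (q : ℝ) ^ 4 * q := by ring
    have h6 : (q : ℝ) ^ 4 = (q : ℝ) ^ 2 * (q : ℝ) ^ 2 := by ring
    have h7 : (64 : ℝ) ≤ (q : ℝ) ^ 2 := by nlinarith only [hs2, hq']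
    calc ((N : ℝ) + 1) * N ≤ (17 / 5 * (q : ℝ) ^ 2 + 1) * (17 / 5 * (q : ℝ) ^ 2) := by
          apply mul_le_mul (by linarith only [hN, h2]) h3 hN0 (by positivity)
      _ ≤ 16 * (q : ℝ) ^ 4 := by rw [h6]; nlinarith only [h7]
      _ ≤ _ := by rw [h5]; nlinarith only [hq', _root_.mul_self_nonneg (↑q ^ 2 : ℝ)]
  exact_mod_cast h4

open Cfsg.Lie

/-- **The primes `p ∤ 2 (q - 1) (q + 1) (q² + 1)`.** -/
theorem fpr_cyc {K : Type u} [Field K] [Fintype K] {m : ℕ} (hm : 1 ≤ m) (hK : Fintype.card K = 2 ^ (2 * m + 1)) {p : ℕ}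
    [hp : Fact p.Prime] (hp2 : p ≠ 2) (h1 : ¬ p ∣ Nat.card K - 1) (h3 : ¬ p ∣ Nat.card K + 1)
    (h4 : ¬ p ∣ Nat.card K ^ 2 + 1) (hpX : p ∣ Nat.card ↥(twistedF4 K (2 ^ m))) :
    FprRow (p + 1) 1 p ↥(twistedF4 K (2 ^ m)) := by
  have hcK : Nat.card K = 2 ^ (2 * m + 1) := by rw [Nat.card_eq_fintype_card, hK]
  have h2 : 2 ∣ Nat.card K := by rw [hcK]; exact dvd_pow_self 2 (by omega)
  have h8 : 8 ≤ Nat.card K := by
    rw [hcK]
    calc 8 = 2 ^ 3 := by norm_num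
      _ ≤ _ := Nat.pow_le_pow_right (by norm_num) (by omega)
  obtain ⟨φ, hφ⟩ := Cfsg.Agent.ChevalleyStructure.TwF4.TwistedFix.exists_rln hK
  have := Cfsg.Agent.ChevalleyStructure.TwF4.Twisted.charP_two hK
  have hfin : Finite ↥(twistedF4 K (2 ^ m)) := inferInstance
  have hF : ∃ c : Kˣ, c ≠ 1 := by
    have h1 : 1 < Nat.card Kˣ := by
      rw [Nat.card_units]
      omega
    have h2 : Nontrivial Kˣ := Finite.one_lt_card_iff_nontrivial.1 h1
    exact exists_ne 1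
  obtain ⟨S, hS⟩ : ∃ S : Full φ ↥(twistedF4 K (2 ^ m)), S.R.p = 2 :=
    ⟨Cfsg.Agent.KFacts.TwF4.Inst.full hK hφ, rfl⟩
  have hp5 : 5 < p := by
    by_contra hcon
    have hp' := hp.out
    have h5 : p = 3 ∨ p = 5 := by
      have h6 : p ≤ 5 := by omega
      have h7 := hp'.two_le
      interval_cases p
      · exact absurd rfl hp2
      · exact Or.inl rfl
      · exact absurd hp' (by norm_num)
      · exact Or.inr rfl
    have e4 : Nat.card K = 4 ^ m * 2 := by rw [hcK, pow_succ, pow_mul]; norm_num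
    rcases h5 with rfl | rfl
    · apply h3
      rw [e4, Nat.dvd_iff_mod_eq_zero, Nat.add_mod, Nat.mul_mod, Nat.pow_mod]
      norm_num
    · apply h4
      have e16 : Nat.card K ^ 2 = 16 ^ m * 4 := by
        rw [e4, mul_pow, ← pow_mul, mul_comm m 2, pow_mul]; norm_num
      rw [e16, Nat.dvd_iff_mod_eq_zero, Nat.add_mod, Nat.mul_mod, Nat.pow_mod]
      norm_num
  obtain ⟨x, hx⟩ := exists_prime_orderOf_dvd_card' p hpX
  have hs := (Cfsg.Agent.S1072.result hm hK).1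
  rcases Cfsg.Agent.H448.FprCent.cent_ste hm hK hp.out hp5 hx with ⟨v, hv, hc⟩ | hcent
  · exact absurd (no_inv S hF hS h2 hp.out hp2 h1 h3 h4 hx hv hc) id
  intro H hH
  refine ⟨x, ⟨1, by rw [hx, pow_one]⟩, ?_⟩
  refine Cfsg.Agent.H398.FPR.ratio_of_bound H (c := Nat.card ↥(centralizer {x})) (i := Nat.card H) le_rfl ?_ ?_
  · exact Nat.card_le_card_of_injective (fun y => y.1) Subtype.val_injective
  have hidx : 2 * Fintype.card K ^ 5 ≤ H.index :=
    Cfsg.Agent.H934.HeisTwF4.main S (by rw [← Nat.card_eq_fintype_card]; omega) H hH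
  have hpN : p ≤ Nat.card ↥(centralizer {x}) := by
    refine Nat.le_of_dvd Nat.card_pos ?_
    rw [← hx]
    exact Subgroup.orderOf_dvd_natCard _ (mem_centralizer_singleton_iff.2 rfl)
  have h5 := num_cyc h8 hcent
  rw [← Nat.card_eq_fintype_card] at hidx
  rw [one_mul, ← H.card_mul_index]
  calc (p + 1) * (Nat.card ↥(centralizer {x}) * Nat.card H) = ((p + 1) * Nat.card ↥(centralizer {x})) * Nat.card H := by ring
    _ ≤ ((Nat.card ↥(centralizer {x}) + 1) * Nat.card ↥(centralizer {x})) * Nat.card H := by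
        gcongr
    _ ≤ H.index * Nat.card H := Nat.mul_le_mul_right _ (h5.trans hidx)
    _ = _ := mul_comm _ _

end Cfsg.Agent.H448.FprTwF
end

-- part: H448/FprTwF/Row
section
/-!
# The row for the groups `²F₄(q)`, `q > 2`, `p` odd (helper448)
-/

set_option autoImplicit false
set_option linter.unusedSectionVars false

namespace Cfsg.Agent.H448.FprTwF

open Cfsg.Agent.KFacts.TwF4 Cfsg.Agent.KFacts.TwF4.Full Cfsg.Agent.KFacts.TwF4.SylU
open Cfsg.Agent.SplitTwo Cfsg.Agent.SplitTwo.ZS Cfsg.Agent.TitsThree.RankTwoZ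
open Cfsg.Agent.SplitTwo.RootSysZ Subgroup MulAction Cfsg.Agent.H409 Cfsg.Lie

universe u

theorem row_twF4 {F : Type u} [Field F] [Fintype F] {m : ℕ} (hm : 1 ≤ m) (hK : Fintype.card F = 2 ^ (2 * m + 1)) {p : ℕ}
    [hp : Fact p.Prime] (hp2 : p ≠ 2) (hpX : p ∣ Nat.card ↥(twistedF4 F (2 ^ m))) :
    FprRow (p + 1) 1 p ↥(twistedF4 F (2 ^ m)) := by
  obtain ⟨φ, hφ⟩ := Cfsg.Agent.ChevalleyStructure.TwF4.TwistedFix.exists_rln hK
  have := Cfsg.Agent.ChevalleyStructure.TwF4.Twisted.charP_two hK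
  have hfin : Finite ↥(twistedF4 F (2 ^ m)) := inferInstance
  have hfact : Fact (Nat.Prime 2) := ⟨Nat.prime_two⟩
  have hFc : Nat.card F = 2 ^ (2 * m + 1) := by rw [Nat.card_eq_fintype_card, hK]
  have h2 : 2 ∣ Nat.card F := by rw [hFc]; exact dvd_pow_self 2 (by omega)
  have h8 : 8 ≤ Nat.card F := by
    rw [hFc]
    calc 8 = 2 ^ 3 := by norm_num
      _ ≤ _ := Nat.pow_le_pow_right (by norm_num) (by omega)
  have hF : ∃ c : Fˣ, c ≠ 1 := by
    have h1 : 1 < Nat.card Fˣ := by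
      rw [Nat.card_units]
      omega
    have h2 : Nontrivial Fˣ := Finite.one_lt_card_iff_nontrivial.1 h1
    exact exists_ne 1
  obtain ⟨S, hS⟩ : ∃ S : Full φ ↥(twistedF4 F (2 ^ m)), S.R.p = 2 :=
    ⟨Cfsg.Agent.KFacts.TwF4.Inst.full hK hφ, rfl⟩
  have hcard : Nat.card ↥(twistedF4 F (2 ^ m)) = Nat.card F ^ 12 * (Nat.card F - 1) * (Nat.card F ^ 3 + 1) *
      (Nat.card F ^ 4 - 1) * (Nat.card F ^ 6 + 1) := by
    rw [hFc]; exact Cfsg.Agent.S1068.result hK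
  by_cases h1 : p ∣ Nat.card F - 1
  · -- `|U| = q^12`
    obtain ⟨P, hP⟩ := exists_sylow S hF hS
    have heven : Even (Nat.card F) := even_iff_two_dvd.2 h2
    have hodd : ∀ n : ℕ, n ≠ 0 → Odd (Nat.card F ^ n + 1) ∧ Odd (Nat.card F ^ n - 1) := by
      intro n hn
      have h1 : Even (Nat.card F ^ n) := heven.pow_of_ne_zero hn
      refine ⟨h1.add_one, ?_⟩
      exact Nat.Even.sub_odd (Nat.one_le_pow _ _ (by omega)) h1 odd_one
    have hUc : Nat.card (J S.XZ 1 8) = Nat.card F ^ 12 := by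
      rw [← hP, P.card_eq_multiplicity]
      have h2 : ¬ 2 ∣ (Nat.card F - 1) * (Nat.card F ^ 3 + 1) * (Nat.card F ^ 4 - 1) * (Nat.card F ^ 6 + 1) := by
        rw [← even_iff_two_dvd, Nat.not_even_iff_odd]
        have h1 := (hodd 1 one_ne_zero).2
        rw [pow_one] at h1
        exact ((h1.mul (hodd 3 (by norm_num)).1).mul (hodd 4 (by norm_num)).2).mul (hodd 6 (by norm_num)).1
      have h3 : Nat.card ↥(twistedF4 F (2 ^ m)) =
          Nat.card F ^ 12 * ((Nat.card F - 1) * (Nat.card F ^ 3 + 1) * (Nat.card F ^ 4 - 1) * (Nat.card F ^ 6 + 1)) := by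
        rw [hcard]; ring
      rw [h3]
      have e12 : Nat.card F ^ 12 = 2 ^ ((2 * m + 1) * 12) := by rw [hFc, ← pow_mul]
      rw [e12]
      exact Cfsg.Agent.H62.PPTwF4.proj_two h2
    exact fpr_minus S hS h8 hUc hcard h1
  by_cases h3 : p ∣ Nat.card F + 1
  · exact fpr_plus S hF hS h2 hcard hp2 h1 h3
  by_cases h4 : p ∣ Nat.card F ^ 2 + 1
  · exact fpr_sz S hF hS h2 h4
  exact fpr_cyc hm hK hp2 h1 h3 h4 hpX

/-- **The row for the groups `²F₄(q)`, `q > 2`.** -/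
theorem row_2F4 {X : Type*} [Group X] [Finite X] (h : Iso2F4 X) {p : ℕ} [hp : Fact p.Prime] (hp2 : p ≠ 2)
    (hpX : p ∣ Nat.card X) : FprRow (p + 1) 1 p X := by
  obtain ⟨F, _, _, m, hm, hK, ⟨e⟩⟩ := h
  have h1 := row_twF4 hm hK hp2 (by rw [← Nat.card_congr e.toEquiv]; exact hpX)
  exact FprRow.of_mulEquiv hp.out e.symm h1

end Cfsg.Agent.H448.FprTwF
end
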